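import Cfsg.Agent.FFModule.Summary
import Cfsg.Agent.PLocal.Constrained
import Cfsg.Agent.SolvStruct.CoprimeOrbits
import Cfsg.Agent.Thompson.ElemToolkit
import Cfsg.Agent.Thompson.FactorBasics

/-!
The action on a normal elementary abelian subgroup, realised in the holomorph.
-/

set_option autoImplicit false
set_option linter.unusedSectionVars false
set_option linter.style.haveILetI false

namespace Cfsg.Lib.FF

open Subgroup Cfsg.Lib.Components Cfsg.Lib.Coprime
open scoped commutatorElement

/-- With trivial `p`-core, the `p'`-core of a `p`-solvable group contains its centraliser. -/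
theorem centralizer_pPrimeCore_le {G : Type*} [Group G] [Finite G] (p : ℕ) [Fact p.Prime]
    (hsolv : Cfsg.IsPSolvable p G) (hO : Cfsg.pCore p G = ⊥) :
    Subgroup.centralizer (Cfsg.pPrimeCore p G : Set G) ≤ Cfsg.pPrimeCore p G := by
  obtain ⟨n, H, h0, hlast, hmono, hnorm, hstep⟩ := hsolv
  haveI hNn : (Cfsg.pPrimeCore p G).Normal := pPrimeCore_normal' p
  set N := Cfsg.pPrimeCore p G with hN
  set C := Subgroup.centralizer (N : Set G) with hC
  haveI : C.Normal := hC ▸ inferInstance
  have key : ∀ i : Fin (n + 1), H i ⊓ C ≤ N := by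
    intro i
    induction i using Fin.induction with
    | zero => rw [h0, bot_inf_eq]; exact bot_le
    | succ i ih =>
      haveI := hnorm i.succ
      haveI := hnorm i.castSucc
      set M := H i.succ ⊓ C with hM
      set Z := H i.castSucc ⊓ C with hZ
      have hZM : Z ≤ M := inf_le_inf_right _ (hmono Fin.castSucc_lt_succ.le)
      have hrel : Z.relIndex M ∣ (H i.castSucc).relIndex (H i.succ) := by
        rw [show Z = H i.castSucc ⊓ M by
          rw [hM, hZ, ← inf_assoc, inf_eq_left.2 (hmono Fin.castSucc_lt_succ.le)],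
          inf_relIndex_right]
        exact ⟨_, ((Subgroup.relIndex_mul_relIndex (H i.castSucc) (M ⊔ H i.castSucc) (H i.succ)
          le_sup_right (sup_le inf_le_left (hmono Fin.castSucc_lt_succ.le))).symm.trans
          (by rw [Subgroup.relIndex_sup_right]))⟩
      have hcard : Nat.card Z * Z.relIndex M = Nat.card M := by
        rw [← relIndex_bot_left, relIndex_mul_relIndex _ _ _ bot_le hZM, relIndex_bot_left]
      have hZp : (Nat.card Z).Coprime p :=
        Nat.Coprime.coprime_dvd_left (Subgroup.card_dvd_of_le ih) (coprime_card_pPrimeCore p)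
      rcases hstep i with ⟨m, hm⟩ | hcop
      · rw [hm] at hrel
        obtain ⟨j, -, hj⟩ := (Nat.dvd_prime_pow Fact.out).1 hrel
        obtain ⟨S⟩ := (inferInstance : Nonempty (Sylow p M))
        have hScard : Nat.card (S : Subgroup M) = p ^ j := by
          rw [S.card_eq_multiplicity, ← hcard, hj, Nat.factorization_mul Nat.card_pos.ne'
            (pow_ne_zero _ (Fact.out : p.Prime).ne_zero), Finsupp.add_apply,
            Nat.factorization_eq_zero_of_not_dvd
              ((Fact.out : p.Prime).coprime_iff_not_dvd.1 hZp.symm), zero_add,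
            (Fact.out : p.Prime).factorization_pow, Finsupp.single_eq_same]
        have hZc : ∀ z ∈ Z, ∀ x ∈ M, z * x = x * z := fun z hz x hx =>
          mem_centralizer_iff.1 hx.2 z (ih hz)
        have hSn : (S : Subgroup M).Normal := by
          have hsup : (Z.subgroupOf M) ⊔ (S : Subgroup M) = ⊤ := by
            apply Subgroup.eq_top_of_card_eq
            refine Nat.dvd_antisymm (Subgroup.card_subgroup_dvd_card _) ?_
            rw [← hcard, hj, ← hScard]
            refine Nat.Coprime.mul_dvd_of_dvd_of_dvd (by rw [hScard]; exact hZp.pow_right j) ?_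
              (Subgroup.card_dvd_of_le le_sup_right)
            rw [← Nat.card_congr (subgroupOfEquivOfLe hZM).toEquiv]
            exact Subgroup.card_dvd_of_le le_sup_left
          refine Subgroup.normalizer_eq_top_iff.1 (top_le_iff.1 (hsup ▸ sup_le ?_ Subgroup.le_normalizer))
          intro z hz
          rw [mem_normalizer_iff]
          intro x
          rw [show z * x = x * z from Subtype.ext (hZc z hz x x.2), mul_inv_cancel_right]
        have hSsub : (S : Subgroup M).map M.subtype ≤ Cfsg.pCore p G := by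
          haveI : M.Normal := Subgroup.normal_inf_normal _ _
          haveI := hSn
          haveI := S.characteristic_of_normal hSn
          exact le_pCore (S.2.map _)
        rw [hO, le_bot_iff, Subgroup.map_eq_bot_iff_of_injective _ M.subtype_injective] at hSsub
        rw [hSsub, Subgroup.card_bot] at hScard
        have hMZ : Nat.card M = Nat.card Z := by rw [← hcard, hj, ← hScard, mul_one]
        rw [← Cfsg.Lib.Coprime.eq_of_le_of_card_eq hZM hMZ.symm]
        exact ih
      · haveI : M.Normal := Subgroup.normal_inf_normal _ _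
        exact le_pPrimeCore (hcard ▸ hZp.mul_left (Nat.Coprime.coprime_dvd_left hrel hcop))
  simpa [hlast] using key (Fin.last n)

section Model

variable {G : Type*} [Group G] [Finite G] {p : ℕ} [hp : Fact p.Prime] (V : Subgroup G)

/-- The holomorph of `V`. -/
abbrev Amb := SemidirectProduct ↥V (MulAut ↥V) (MonoidHom.id (MulAut ↥V))

instance : Finite (Amb V) :=
  haveI : Finite (MulAut ↥V) := Finite.of_injective (fun e : MulAut ↥V => (e : ↥V → ↥V)) DFunLike.coe_injective
  Finite.of_equiv _ SemidirectProduct.equivProd.symm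

/-- `V` in its holomorph. -/
def vx : Subgroup (Amb V) := (SemidirectProduct.inl : ↥V →* Amb V).range

theorem elementary_vx {V : Subgroup G} (hV : Cfsg.IsElementaryAbelian p V) :
    Cfsg.IsElementaryAbelian p (vx V) := by
  refine ⟨⟨⟨?_⟩⟩, ?_⟩
  · rintro ⟨_, u, rfl⟩ ⟨_, w, rfl⟩
    refine Subtype.ext ?_
    show SemidirectProduct.inl u * SemidirectProduct.inl w = SemidirectProduct.inl w * SemidirectProduct.inl u
    rw [← map_mul, ← map_mul, show u * w = w * u from Subtype.ext (comm_elem hV u.2 w.2)]
  · rintro _ ⟨u, rfl⟩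
    rw [← map_pow, show u ^ p = 1 from Subtype.ext (by push_cast; exact hV.2 u u.2), map_one]

theorem le_normalizer_vx (H : Subgroup (Amb V)) : H ≤ normalizer (vx V : Set (Amb V)) := by
  have key : ∀ (y : Amb V) (v : ↥V), y * SemidirectProduct.inl v * y⁻¹ ∈ vx V := fun y v => by
    refine ⟨y.left * y.right v * y.left⁻¹, ?_⟩
    rw [show y * SemidirectProduct.inl v * y⁻¹ = SemidirectProduct.inl y.left * (SemidirectProduct.inr y.right *
      SemidirectProduct.inl v * (SemidirectProduct.inr y.right)⁻¹) * (SemidirectProduct.inl y.left)⁻¹ by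
        conv_lhs => rw [← SemidirectProduct.inl_left_mul_inr_right y]
        group]
    rw [map_mul, map_mul, map_inv, show (SemidirectProduct.inl (y.right v) : Amb V) =
      SemidirectProduct.inr y.right * SemidirectProduct.inl v * (SemidirectProduct.inr y.right)⁻¹ from by
        rw [← map_inv]; exact SemidirectProduct.inl_aut y.right v]
  intro y _
  refine mem_normalizer_iff.2 fun x => ⟨?_, fun hx => ?_⟩
  · rintro ⟨v, rfl⟩; exact key y v
  · obtain ⟨v, hv⟩ := hx
    have := key y⁻¹ v
    rw [hv] at this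
    simpa [mul_assoc] using this

variable [V.Normal]

/-- The action of `G` on `V`, in the holomorph. -/
def rho : G →* Amb V := (SemidirectProduct.inr).comp MulAut.conjNormal

theorem rho_conj (g : G) (v : ↥V) :
    rho V g * SemidirectProduct.inl v * (rho V g)⁻¹ =
      SemidirectProduct.inl ⟨g * v * g⁻¹, (inferInstance : V.Normal).conj_mem _ v.2 g⟩ := by
  rw [rho, MonoidHom.comp_apply, ← map_inv, ← SemidirectProduct.inl_aut]
  congr 1

theorem rho_commute_iff (g : G) (v : ↥V) :
    rho V g * SemidirectProduct.inl v = SemidirectProduct.inl v * rho V g ↔ g * v = v * g := by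
  rw [← mul_inv_eq_iff_eq_mul, rho_conj, SemidirectProduct.inl_inj, ← Subtype.coe_inj, mul_inv_eq_iff_eq_mul]

theorem ker_rho : (rho V).ker = centralizer (V : Set G) := by
  ext g
  rw [MonoidHom.mem_ker, mem_centralizer_iff]
  constructor
  · intro h v hv
    exact ((rho_commute_iff V g ⟨v, hv⟩).1 (by rw [h, one_mul, mul_one])).symm
  · intro h
    rw [rho, MonoidHom.comp_apply, show MulAut.conjNormal g = (1 : MulAut ↥V) from ?_, map_one]
    refine MulEquiv.ext fun v => Subtype.ext ?_
    rw [MulAut.conjNormal_apply, MulAut.one_apply, ← h v v.2, mul_inv_cancel_right]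

theorem faith_vx {H : Subgroup G} : ∀ h ∈ H.map (rho V), (∀ v ∈ vx V, h * v = v * h) → h = 1 := by
  rintro _ ⟨g, -, rfl⟩ hc
  rw [← MonoidHom.mem_ker, ker_rho, mem_centralizer_iff]
  exact fun v hv => ((rho_commute_iff V g ⟨v, hv⟩).1 (hc _ ⟨_, rfl⟩)).symm

theorem card_fx_map (B : Subgroup G) : Nat.card (fx (vx V) (B.map (rho V))) = Nat.card (fx V B) := by
  have h : fx (vx V) (B.map (rho V)) = ((fx V B).subgroupOf V).map SemidirectProduct.inl := by
    ext x
    rw [mem_fx]
    constructor
    · rintro ⟨⟨v, rfl⟩, hc⟩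
      exact ⟨v, mem_fx.2 ⟨v.2, fun b hb => (rho_commute_iff V b v).1 (hc _ ⟨b, hb, rfl⟩)⟩, rfl⟩
    · rintro ⟨v, hv, rfl⟩
      refine ⟨⟨v, rfl⟩, ?_⟩
      rintro _ ⟨b, hb, rfl⟩
      exact (rho_commute_iff V b v).2 ((mem_fx.1 hv).2 b hb)
  rw [h, card_map_of_injective SemidirectProduct.inl_injective,
    Nat.card_congr (subgroupOfEquivOfLe (show fx V B ≤ V from inf_le_left)).toEquiv]

theorem card_eq_map_mul {Y : Type*} [Group Y] (f : G →* Y) (B : Subgroup G) :
    Nat.card B = Nat.card (B.map f) * Nat.card ↥(B ⊓ f.ker) := by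
  have h := card_mul_index (f.domRestrict B).ker
  rw [index_ker, MonoidHom.domRestrict_range, MonoidHom.ker_domRestrict, ← inf_subgroupOf_left,
    Nat.card_congr (subgroupOfEquivOfLe (inf_le_left : B ⊓ f.ker ≤ B)).toEquiv] at h
  rw [← h, mul_comm]

theorem best_map {A : Subgroup G} (hA : Cfsg.IsBestOffenderOn p V A) :
    Cfsg.IsBestOffenderOn p (vx V) (A.map (rho V)) := by
  have hker : ∀ x : G, x ∈ centralizer (V : Set G) → rho V x = 1 := fun x hx => by
    rwa [← MonoidHom.mem_ker, ker_rho]
  refine ⟨fun B hB => ?_, ?_, ?_⟩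
  · set B₀ := A ⊓ B.comap (rho V)
    have hmap : B₀.map (rho V) = B := by
      refine le_antisymm ((map_mono inf_le_right).trans (map_comap_le _ _)) fun y hy => ?_
      obtain ⟨a, ha, rfl⟩ := hB hy
      exact ⟨a, ⟨ha, hy⟩, rfl⟩
    have hk : B₀ ⊓ (rho V).ker = A ⊓ (rho V).ker := by
      refine le_antisymm (inf_le_inf_right _ inf_le_left) fun x hx => ?_
      obtain ⟨h1, h2⟩ := mem_inf.1 hx
      exact ⟨⟨h1, show rho V x ∈ B from (MonoidHom.mem_ker.1 h2).symm ▸ one_mem _⟩, h2⟩
    have h := hA.1 B₀ inf_le_left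
    change Nat.card B₀ * Nat.card (fx V B₀) ≤ Nat.card A * Nat.card (fx V A) at h
    show Nat.card B * Nat.card (fx (vx V) B) ≤ Nat.card (A.map (rho V)) * Nat.card (fx (vx V) (A.map (rho V)))
    rw [← hmap, card_fx_map, card_fx_map]
    rw [card_eq_map_mul (rho V) B₀, card_eq_map_mul (rho V) A, hk, mul_right_comm, mul_right_comm _ _ (Nat.card (fx V A))] at h
    exact Nat.le_of_mul_le_mul_right h Nat.card_pos
  · rw [← map_commutator]
    rintro _ ⟨x, hx, rfl⟩
    rw [hker x (hA.2.1 hx)]
    exact one_mem _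
  · rintro _ ⟨a, ha, rfl⟩
    rw [← map_pow, hker _ (hA.2.2 a ha)]
    exact one_mem _

theorem pCore_range_eq_bot {Y : Type*} [Group Y] [Finite Y] (f : G →* Y)
    (hO : Cfsg.pCore p (G ⧸ f.ker) = ⊥) : Cfsg.pCore p f.range = ⊥ := by
  set e := QuotientGroup.quotientKerEquivRange f
  haveI := Cfsg.Lib.Components.pCore_normal' (G := f.range) p
  have h : (Cfsg.pCore p f.range).comap e.toMonoidHom ≤ Cfsg.pCore p (G ⧸ f.ker) :=
    le_pCore ((isPGroup_pCore p).comap_of_injective _ e.injective)
  rw [hO, le_bot_iff] at h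
  rw [← map_comap_eq_self_of_surjective (f := e.toMonoidHom) e.surjective (Cfsg.pCore p f.range), h,
    Subgroup.map_bot]

/-- A normal subgroup of a `p`-solvable group satisfies the standing hypotheses in the holomorph. -/
theorem setup_model (hsep : Cfsg.IsPSolvable p G) (hV : Cfsg.IsElementaryAbelian p V)
    (hO : Cfsg.pCore p (G ⧸ centralizer (V : Set G)) = ⊥) (N : Subgroup G) [hN : N.Normal] :
    Setup p (vx V) (N.map (rho V)) := by
  have hO' : Cfsg.pCore p (rho V).range = ⊥ := by
    refine pCore_range_eq_bot (rho V) ?_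
    haveI := Cfsg.Lib.Components.pCore_normal' (G := G ⧸ (rho V).ker) p
    set e := (QuotientGroup.quotientMulEquivOfEq (ker_rho V)).symm
    have h : (Cfsg.pCore p (G ⧸ (rho V).ker)).comap e.toMonoidHom ≤ Cfsg.pCore p (G ⧸ centralizer (V : Set G)) :=
      le_pCore ((isPGroup_pCore p).comap_of_injective _ e.injective)
    rw [hO, le_bot_iff] at h
    rw [← map_comap_eq_self_of_surjective (f := e.toMonoidHom) e.surjective
      (Cfsg.pCore p (G ⧸ (rho V).ker)), h, Subgroup.map_bot]
  set H := N.map (rho V)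
  have hsurj : Function.Surjective ((rho V).subgroupMap N) := (rho V).subgroupMap_surjective N
  have hsol : Cfsg.IsPSolvable p H := Cfsg.Lib.Constraint.isPSolvable_of_surjective hsurj
    (Cfsg.Lib.SolvStruct.CoprimeOrbits.isPSolvable_subgroup hsep hp.out N)
  have hle : H ≤ (rho V).range := map_le_range _ _
  haveI hHn : (H.subgroupOf (rho V).range).Normal := by
    refine ⟨?_⟩
    rintro ⟨_, g, rfl⟩ ⟨n, hn, he⟩ ⟨_, h, rfl⟩
    refine ⟨h * n * h⁻¹, hN.conj_mem n hn h, ?_⟩
    simp only [map_mul, map_inv]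
    rw [he]
    rfl
  have hcore : Cfsg.pCore p H = ⊥ := by
    set H' := H.subgroupOf (rho V).range
    haveI : (Cfsg.pCore p H').Characteristic := pCore_characteristic
    have h1 : (Cfsg.pCore p H').map H'.subtype ≤ Cfsg.pCore p (rho V).range :=
      le_pCore ((isPGroup_pCore p).map _)
    rw [hO', le_bot_iff, map_eq_bot_iff_of_injective _ H'.subtype_injective] at h1
    haveI := Cfsg.Lib.Components.pCore_normal' (G := H) p
    set e := subgroupOfEquivOfLe hle
    have h2 : (Cfsg.pCore p H).comap e.toMonoidHom ≤ Cfsg.pCore p H' :=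
      le_pCore ((isPGroup_pCore p).comap_of_injective _ e.injective)
    rw [h1, le_bot_iff] at h2
    rw [← map_comap_eq_self_of_surjective (f := e.toMonoidHom) e.surjective (Cfsg.pCore p H), h2,
      Subgroup.map_bot]
  have hc := centralizer_pPrimeCore_le p hsol hcore
  refine ⟨elementary_vx hV, le_normalizer_vx V _, faith_vx V, fun h hh hq => ?_⟩
  exact ⟨⟨h, hh⟩, hc (mem_centralizer_iff.2 fun q hq' => Subtype.ext (hq _ ⟨q, hq', rfl⟩)), rfl⟩

/-- The image of the Thompson subgroup is generated by best offenders. -/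
theorem thompson_gen
    (hbest : ∀ A ∈ Cfsg.maxElementaryAbelianSubgroups p G, Cfsg.IsBestOffenderOn p V A) :
    (Cfsg.thompsonSubgroup p G).map (rho V) =
      ⨆ A : {A : Subgroup (Amb V) // A ≤ (Cfsg.thompsonSubgroup p G).map (rho V) ∧
        Cfsg.IsBestOffenderOn p (vx V) A}, (A : Subgroup (Amb V)) := by
  refine le_antisymm ?_ (iSup_le fun A => A.2.1)
  rw [map_le_iff_le_comap]
  refine sSup_le fun A hA => map_le_iff_le_comap.1 ?_
  exact le_iSup_of_le ⟨A.map (rho V), map_mono (le_sSup hA), best_map V (hbest A hA)⟩ le_rfl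

theorem quot_iso {Y : Type*} [Group Y] (f : G →* Y) {S : Subgroup Y} (hS : S ≤ f.range) {C : Subgroup G}
    (hC : C = f.ker) : ∃ hn : (C.subgroupOf (S.comap f)).Normal,
      Nonempty ((↥(S.comap f) ⧸ C.subgroupOf (S.comap f)) ≃* S) := by
  subst hC
  set φ : ↥(S.comap f) →* S := (f.domRestrict (S.comap f)).codRestrict S fun x => x.2
  have hk : φ.ker = f.ker.subgroupOf (S.comap f) := by
    ext x
    rw [MonoidHom.mem_ker, mem_subgroupOf, MonoidHom.mem_ker]
    exact Subtype.ext_iff
  have hs : Function.Surjective φ := fun y => by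
    obtain ⟨g, hg⟩ := hS y.2
    exact ⟨⟨g, by rw [mem_comap, hg]; exact y.2⟩, Subtype.ext hg⟩
  haveI hn : (f.ker.subgroupOf (S.comap f)).Normal := hk ▸ φ.normal_ker
  exact ⟨hn, ⟨(QuotientGroup.quotientMulEquivOfEq hk.symm).trans (QuotientGroup.quotientKerEquivOfSurjective φ hs)⟩⟩

theorem thompson_normal : (Cfsg.thompsonSubgroup p G).Normal := by
  haveI : (Cfsg.thompsonSubgroup p G).Characteristic := by
    refine Subgroup.characteristic_iff_map_le.2 fun φ => ?_
    rw [Cfsg.thompsonSubgroup, (Subgroup.gc_map_comap _).l_sSup]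
    exact iSup₂_le fun A hA => le_sSup
      ⟨(Cfsg.Lib.Thompson.isElementaryAbelian_map_iff φ.injective.injOn).2 hA.1, fun B hB => by
        rw [Subgroup.card_map_of_injective φ.injective]; exact hA.2 B hB⟩
  infer_instance

end Model

end Cfsg.Lib.FF
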