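import Cfsg.Agent.Coprime.CyclicQuotient
import Cfsg.Agent.Components.Cores
import Cfsg.Agent.PGroups.Bounds
import Cfsg.Prelude.Def_PLocal
import Mathlib

/-!
Best offenders of a faithful group with self-centralizing `p'`-core: the fixed point inequality and transvections.
-/

set_option autoImplicit false
set_option linter.unusedSectionVars false
set_option linter.style.haveILetI false

namespace Cfsg.Lib.FF

open Subgroup
open scoped commutatorElement

variable {G : Type*} [Group G] {p : ℕ}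

/-- The `p'`-core of `H` inside `G`. -/
def core (p : ℕ) (H : Subgroup G) : Subgroup G := (Cfsg.pPrimeCore p ↥H).map H.subtype

/-- The standing hypotheses. -/
structure Setup (p : ℕ) (V H : Subgroup G) : Prop where
  elem : Cfsg.IsElementaryAbelian p V
  norm : H ≤ normalizer (V : Set G)
  faith : ∀ h ∈ H, (∀ v ∈ V, h * v = v * h) → h = 1
  self : ∀ h ∈ H, (∀ q ∈ core p H, q * h = h * q) → h ∈ core p H

theorem setup_mk {V H : Subgroup G} (hV : Cfsg.IsElementaryAbelian p V)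
    (hHV : H ≤ normalizer (V : Set G)) (hf : H ⊓ centralizer (V : Set G) = ⊥)
    (hS1 : centralizer (Cfsg.pPrimeCore p ↥H : Set ↥H) ≤ Cfsg.pPrimeCore p ↥H) : Setup p V H := by
  refine ⟨hV, hHV, fun h hh hc => ?_, fun h hh hc => ?_⟩
  · rw [← mem_bot, ← hf]
    exact ⟨hh, mem_centralizer_iff.2 fun v hv => (hc v hv).symm⟩
  · exact ⟨⟨h, hh⟩, hS1 (mem_centralizer_iff.2 fun q hq => Subtype.ext (hc _ ⟨q, hq, rfl⟩)), rfl⟩

/-- The fixed points. -/
def fx (V B : Subgroup G) : Subgroup G := V ⊓ centralizer (B : Set G)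

theorem mem_fx {V B : Subgroup G} {v : G} : v ∈ fx V B ↔ v ∈ V ∧ ∀ b ∈ B, b * v = v * b :=
  and_congr Iff.rfl mem_centralizer_iff

theorem fx_anti {V A B : Subgroup G} (h : A ≤ B) : fx V B ≤ fx V A :=
  inf_le_inf le_rfl (centralizer_le h)

theorem comm_elem {A : Subgroup G} (hA : Cfsg.IsElementaryAbelian p A) {x y : G} (hx : x ∈ A) (hy : y ∈ A) :
    x * y = y * x :=
  congrArg Subtype.val (hA.1.is_comm.comm (⟨x, hx⟩ : A) ⟨y, hy⟩)

theorem conj_mem {V : Subgroup G} {g v : G} (hg : g ∈ normalizer (V : Set G)) (hv : v ∈ V) :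
    g * v * g⁻¹ ∈ V := (mem_normalizer_iff.1 hg v).1 hv

theorem comm_mem {V : Subgroup G} {g v : G} (hg : g ∈ normalizer (V : Set G)) (hv : v ∈ V) :
    ⁅g, v⁆ ∈ V := mul_mem (conj_mem hg hv) (inv_mem hv)

theorem isPGroup_elem {A : Subgroup G} (hA : Cfsg.IsElementaryAbelian p A) : IsPGroup p A := fun a =>
  ⟨1, Subtype.ext (by rw [pow_one]; push_cast; exact hA.2 a a.2)⟩

theorem commutator_mul_right_of_comm {g u v : G} (h : ⁅g, v⁆ * u = u * ⁅g, v⁆) :
    ⁅g, u * v⁆ = ⁅g, u⁆ * ⁅g, v⁆ := by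
  calc ⁅g, u * v⁆ = g * u * g⁻¹ * (⁅g, v⁆ * u⁻¹) := by simp only [commutatorElement_def]; group
    _ = g * u * g⁻¹ * (u⁻¹ * ⁅g, v⁆) := by
      rw [((show Commute ⁅g, v⁆ u from h).inv_right).eq]
    _ = ⁅g, u⁆ * ⁅g, v⁆ := by simp only [commutatorElement_def]; group

/-- The commutation map on an abelian normalised subgroup. -/
def deltaHom {V : Subgroup G} (hV : Cfsg.IsElementaryAbelian p V) {g : G}
    (hg : g ∈ normalizer (V : Set G)) : V →* G where
  toFun v := ⁅g, (v : G)⁆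
  map_one' := commutatorElement_one_right g
  map_mul' u v := commutator_mul_right_of_comm (comm_elem hV (comm_mem hg v.2) u.2)

variable [Finite G] [hp : Fact p.Prime]

theorem coprime_core (H : Subgroup G) : (Nat.card (core p H)).Coprime p := by
  rw [core, card_map_of_injective H.subtype_injective]
  exact Cfsg.Lib.Components.coprime_card_pPrimeCore p

theorem core_le (H : Subgroup G) : core p H ≤ H := map_subtype_le _

theorem le_normalizer_core (H : Subgroup G) : H ≤ normalizer (core p H : Set G) := by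
  haveI : (Cfsg.pPrimeCore p ↥H).Normal := Cfsg.Lib.Components.pPrimeCore_normal' p
  intro h hh
  refine mem_normalizer_iff.2 fun x => ⟨?_, fun hx => ?_⟩
  · rintro ⟨q, hq, rfl⟩
    exact ⟨_, Subgroup.Normal.conj_mem inferInstance q hq ⟨h, hh⟩, rfl⟩
  · obtain ⟨q, hq, e⟩ := hx
    refine ⟨_, Subgroup.Normal.conj_mem inferInstance q hq (⟨h, hh⟩ : H)⁻¹, ?_⟩
    show h⁻¹ * (q : G) * h⁻¹⁻¹ = x
    rw [show ((q : H) : G) = h * x * h⁻¹ from e]
    group

theorem eq_one_of_core {H : Subgroup G} {A : Subgroup G} (hA : IsPGroup p A) {a : G} (ha : a ∈ A)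
    (hq : a ∈ core p H) : a = 1 := by
  obtain ⟨k, hk⟩ := hA ⟨a, ha⟩
  have hk' : a ^ p ^ k = 1 := congrArg Subtype.val hk
  refine orderOf_eq_one_iff.1 (Nat.eq_one_of_dvd_coprimes ((coprime_core H).pow_right k) ?_
    (orderOf_dvd_of_pow_eq_one hk'))
  simpa using orderOf_dvd_natCard (⟨a, hq⟩ : core p H)

omit hp in
theorem card_sup_le {N C : Subgroup G} (h : C ≤ normalizer (N : Set G)) :
    Nat.card ↥(N ⊔ C) ≤ Nat.card N * Nat.card C := by
  rw [sup_comm, mul_comm, ← Nat.card_prod]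
  refine Nat.card_le_card_of_surjective
    (fun z : C × N => (⟨z.1 * z.2, mul_mem (mem_sup_left z.1.2) (mem_sup_right z.2.2)⟩ : ↥(C ⊔ N))) ?_
  rintro ⟨x, hx⟩
  rw [← SetLike.mem_coe, coe_mul_of_left_le_normalizer_right C N h, Set.mem_mul] at hx
  obtain ⟨c, hc, n, hn, rfl⟩ := hx
  exact ⟨(⟨c, hc⟩, ⟨n, hn⟩), rfl⟩

/-- A `p'`-element commuting with a `p`-group `B` and fixing `C_V(B)` fixes `V`. -/
theorem commute_of_fix_fixed {V B : Subgroup G} (hV : Cfsg.IsElementaryAbelian p V) (hB : IsPGroup p B)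
    (hBV : B ≤ normalizer (V : Set G)) {q : G} (hqV : q ∈ normalizer (V : Set G))
    (hq : (orderOf q).Coprime p) (hcomm : ∀ b ∈ B, b * q = q * b)
    (hfix : ∀ v ∈ fx V B, q * v = v * q) : ∀ v ∈ V, q * v = v * q := by
  set W := (deltaHom hV hqV).range with hW
  have hWV : W ≤ V := by rintro _ ⟨v, rfl⟩; exact comm_mem hqV v.2
  have hBW : B ≤ normalizer (W : Set G) := by
    intro b hb
    have key : ∀ c ∈ B, ∀ x ∈ W, c * x * c⁻¹ ∈ W := by
      rintro c hc _ ⟨v, rfl⟩
      refine ⟨⟨c * v * c⁻¹, conj_mem (hBV hc) v.2⟩, ?_⟩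
      show ⁅q, c * (v : G) * c⁻¹⁆ = c * ⁅q, (v : G)⁆ * c⁻¹
      have hcq : c * q * c⁻¹ = q := by rw [hcomm c hc, mul_inv_cancel_right]
      conv_lhs => rw [← hcq]
      simp only [commutatorElement_def]
      group
    refine mem_normalizer_iff.2 fun x => ⟨key b hb x, fun hx => ?_⟩
    have := key b⁻¹ (inv_mem hb) _ hx
    simpa [mul_assoc] using this
  by_cases hW1 : W = ⊥
  · intro v hv
    have h1 : ⁅q, v⁆ ∈ W := ⟨⟨v, hv⟩, rfl⟩
    rw [hW1, mem_bot] at h1
    exact commutatorElement_eq_one_iff_mul_comm.1 h1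
  exfalso
  have hWp : IsPGroup p W := (isPGroup_elem hV).to_le hWV
  haveI : (W.subgroupOf (W ⊔ B)).Normal :=
    normal_subgroupOf_of_le_normalizer (sup_le le_normalizer hBW)
  obtain ⟨z, hzW, hzc, hzo⟩ := Cfsg.Lib.PGroups.exists_mem_center_of_normal_ne_bot
    (hWp.to_sup_of_normal_left' hB hBW) (N := W.subgroupOf (W ⊔ B))
    (by rw [Ne, subgroupOf_eq_bot, disjoint_iff, inf_eq_left.mpr le_sup_left]; exact hW1)
  have hz1 : (z : G) ≠ 1 := fun e => by
    rw [show z = 1 from Subtype.ext e, orderOf_one] at hzo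
    exact hp.out.ne_one hzo.symm
  have hzf : q * (z : G) = z * q := hfix _ (mem_fx.2 ⟨hWV hzW, fun b hb =>
    congrArg Subtype.val (mem_center_iff.1 hzc ⟨b, mem_sup_right hb⟩)⟩)
  obtain ⟨v, hv⟩ := hzW
  have hv' : ⁅q, (v : G)⁆ = z := hv
  have hfx : q * (z : G) * q⁻¹ = z := by rw [hzf, mul_inv_cancel_right]
  have hpow : ∀ i : ℕ, q ^ i * (v : G) * (q ^ i)⁻¹ = (z : G) ^ i * v := by
    intro i
    induction i with
    | zero => simp
    | succ i ih =>
      calc q ^ (i + 1) * (v : G) * (q ^ (i + 1))⁻¹ = q * (q ^ i * v * (q ^ i)⁻¹) * q⁻¹ := by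
            rw [pow_succ']; group
        _ = (q * (z : G) * q⁻¹) ^ i * (q * v * q⁻¹) := by rw [ih, conj_pow]; group
        _ = (z : G) ^ i * (⁅q, (v : G)⁆ * v) := by rw [hfx, commutatorElement_def]; group
        _ = _ := by rw [hv', pow_succ, mul_assoc]
  have h1 := hpow (orderOf q)
  rw [pow_orderOf_eq_one, one_mul, inv_one, mul_one, eq_comm, mul_eq_right] at h1
  refine hz1 (orderOf_eq_one_iff.1 (Nat.eq_one_of_dvd_coprimes hq (orderOf_dvd_of_pow_eq_one h1) ?_))
  exact orderOf_dvd_of_pow_eq_one (hV.2 _ (hWV ⟨v, hv⟩))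

variable {V H : Subgroup G}

/-- Hyperplanes avoiding a given element, with a core element seeing it. -/
theorem exists_hyperplane (hs : Setup p V H) {A : Subgroup G} (hA : Cfsg.IsElementaryAbelian p A) (hAH : A ≤ H)
    {a : G} (ha : a ∈ A) (ha1 : a ≠ 1) :
    ∃ B ≤ A, a ∉ B ∧ p * Nat.card B = Nat.card A ∧
      ∃ q ∈ core p H, (∀ b ∈ B, b * q = q * b) ∧ q * a ≠ a * q := by
  haveI := hA.1
  have hcop : (Nat.card A).Coprime (Nat.card (core p H)) := by
    obtain ⟨i, hi⟩ := IsPGroup.iff_card.1 (isPGroup_elem hA)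
    rw [hi]
    exact (coprime_core H).symm.pow_left i
  have hjoin := Cfsg.Lib.Coprime.le_join_cyclicQuot (A := A) (Nat.card A) ⊥ (core p H) (by omega) bot_le
    (hAH.trans (le_normalizer_core H)) hcop bot_le
  obtain ⟨C, hC, q, hq, hqa⟩ : ∃ C ∈ Cfsg.Lib.Coprime.cyclicQuot A,
      ∃ q ∈ core p H ⊓ centralizer (C : Set G), q * a ≠ a * q := by
    by_contra hno
    push Not at hno
    refine ha1 (eq_one_of_core (isPGroup_elem hA) ha (hs.self a (hAH ha) fun q hq => ?_))
    have hle : core p H ≤ centralizer ({a} : Set G) := hjoin.trans (iSup₂_le fun C hC x hx =>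
      mem_centralizer_singleton_iff.2 (hno C hC x hx))
    exact mem_centralizer_singleton_iff.1 (hle hq)
  obtain ⟨hCA, c, hcA, hCc⟩ := hC
  have hcq : ∀ b ∈ C, b * q = q * b := fun b hb => mem_centralizer_iff.1 hq.2 b hb
  have haC : a ∉ C := fun h => hqa (hcq a h).symm
  refine ⟨C, hCA, haC, ?_, q, hq.1, hcq, hqa⟩
  have hcn : zpowers c ≤ normalizer (C : Set G) := zpowers_le.2 (centralizer_le_normalizer _
    (mem_centralizer_iff.2 fun b hb => comm_elem hA (hCA hb) hcA))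
  have hle : Nat.card A ≤ Nat.card C * p := by
    conv_lhs => rw [← hCc]
    have h := card_sup_le hcn
    refine h.trans (Nat.mul_le_mul_left _ ?_)
    rw [Nat.card_zpowers]
    exact Nat.le_of_dvd hp.out.pos (orderOf_dvd_of_pow_eq_one (hA.2 c hcA))
  obtain ⟨i, hi⟩ := IsPGroup.iff_card.1 (isPGroup_elem hA)
  obtain ⟨j, hj, hjc⟩ := (Nat.dvd_prime_pow hp.out).1 (hi ▸ card_dvd_of_le hCA : Nat.card C ∣ p ^ i)
  rw [hi, hjc, ← pow_succ] at hle
  have hlt : j < i := by
    rcases hj.lt_or_eq with h | h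
    · exact h
    · exact absurd (eq_of_le_of_card_ge hCA (by rw [hi, hjc, h]) ▸ ha) haC
  have := (Nat.pow_le_pow_iff_right hp.out.one_lt).1 hle
  rw [hi, hjc, ← pow_succ', show j + 1 = i by omega]

/-- Fixed points drop from a hyperplane with a core element seeing the complement. -/
theorem fx_mul_le (hs : Setup p V H) {A B : Subgroup G} (hA : Cfsg.IsElementaryAbelian p A) (hAH : A ≤ H)
    (hBA : B ≤ A) {a q : G} (ha : a ∈ A) (hq : q ∈ core p H) (hc : ∀ b ∈ B, b * q = q * b)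
    (hqa : q * a ≠ a * q) : p * Nat.card (fx V A) ≤ Nat.card (fx V B) := by
  have hle : fx V A ≤ fx V B := fx_anti hBA
  obtain ⟨i, hi⟩ : ∃ i, Nat.card (fx V B) = p ^ i :=
    IsPGroup.iff_card.1 ((isPGroup_elem hs.elem).to_le (inf_le_left : fx V B ≤ V))
  obtain ⟨j, hj, hjc⟩ := (Nat.dvd_prime_pow hp.out).1 (hi ▸ card_dvd_of_le hle : Nat.card (fx V A) ∣ p ^ i)
  rcases hj.lt_or_eq with h | h
  · rw [hi, hjc, ← pow_succ']
    exact Nat.pow_le_pow_right hp.out.pos h
  exfalso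
  have heq := eq_of_le_of_card_ge hle (by rw [hi, hjc, h])
  have hqH := core_le H hq
  -- `q` normalises the fixed points of `B`
  have hnq : ∀ c : G, (∀ b ∈ B, b * c = c * b) → c ∈ H → ∀ v ∈ fx V B, c * v * c⁻¹ ∈ fx V B := by
    intro c hc' hcH v hv
    refine mem_fx.2 ⟨conj_mem (hs.norm hcH) (mem_fx.1 hv).1, fun b hb => ?_⟩
    exact ((show Commute b c from hc' b hb).mul_right ((mem_fx.1 hv).2 b hb)).mul_right
      (show Commute b c from hc' b hb).inv_right
  have hafix : ∀ v ∈ fx V B, a * v = v * a := fun v hv => (mem_fx.1 (heq ▸ hv)).2 a ha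
  set r := ⁅q, a⁆ with hr
  have hrQ : r ∈ core p H := by
    rw [hr, commutatorElement_def, mul_assoc, mul_assoc]
    refine mul_mem hq ?_
    rw [← mul_assoc]
    exact (mem_normalizer_iff.1 (le_normalizer_core H (hAH ha)) _).1 (inv_mem hq)
  have hrB : ∀ b ∈ B, b * r = r * b := fun b hb => by
    have h1 : Commute b q := hc b hb
    have h2 : Commute b a := comm_elem hA (hBA hb) ha
    exact ((h1.mul_right h2).mul_right h1.inv_right).mul_right h2.inv_right
  have hrfix : ∀ v ∈ fx V B, r * v = v * r := by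
    intro v hv
    have h1 : Commute a v := hafix v hv
    have hw := hnq q⁻¹ (fun b hb => ((show Commute b q from hc b hb).inv_right).eq) (inv_mem hqH) v hv
    rw [inv_inv] at hw
    have h2 : Commute (q * a * q⁻¹) v := by
      have h3 := (show Commute a (q⁻¹ * v * q) from hafix _ hw).map (MulAut.conj q).toMonoidHom
      simpa [mul_assoc] using h3
    exact (h2.mul_left h1.inv_left).eq
  have hr1 : r = 1 := hs.faith r (core_le H hrQ) (commute_of_fix_fixed hs.elem
    ((isPGroup_elem hA).to_le hBA) ((hBA.trans hAH).trans hs.norm) (hs.norm (core_le H hrQ))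
    (Nat.Coprime.of_dvd_left (by simpa using orderOf_dvd_natCard (⟨r, hrQ⟩ : core p H)) (coprime_core H))
    hrB hrfix)
  exact hqa (commutatorElement_eq_one_iff_mul_comm.1 hr1)

/-- `|A| |C_V(A)| ≤ |V|`. -/
theorem card_mul_fx_le (hs : Setup p V H) {A : Subgroup G} (hA : Cfsg.IsElementaryAbelian p A) (hAH : A ≤ H) :
    Nat.card A * Nat.card (fx V A) ≤ Nat.card V := by
  induction hk : Nat.card A using Nat.strong_induction_on generalizing A with
  | _ k ih =>
    subst hk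
    by_cases hA1 : A = ⊥
    · subst hA1
      rw [card_bot, one_mul]
      exact Nat.card_le_card_of_injective _ (inclusion_injective inf_le_left)
    obtain ⟨a, ha, hne⟩ := (bot_or_exists_ne_one A).resolve_left hA1
    obtain ⟨B, hBA, -, hcard, q, hq, hc, hqa⟩ := exists_hyperplane hs hA hAH ha hne
    have hlt : Nat.card B < Nat.card A := by
      rw [← hcard]
      exact lt_mul_of_one_lt_left Nat.card_pos hp.out.one_lt
    have h1 := ih _ hlt ⟨⟨⟨fun x y => Subtype.ext (comm_elem hA (hBA x.2) (hBA y.2))⟩⟩,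
      fun b hb => hA.2 b (hBA hb)⟩ (hBA.trans hAH) rfl
    calc Nat.card A * Nat.card (fx V A) = Nat.card B * (p * Nat.card (fx V A)) := by rw [← hcard]; ring
      _ ≤ Nat.card B * Nat.card (fx V B) := Nat.mul_le_mul_left _ (fx_mul_le hs hA hAH hBA ha hq hc hqa)
      _ ≤ _ := h1

theorem elem_of_best (hs : Setup p V H) {A : Subgroup G} (hAH : A ≤ H) (hA : Cfsg.IsBestOffenderOn p V A) :
    Cfsg.IsElementaryAbelian p A := by
  refine ⟨⟨⟨fun x y => Subtype.ext ?_⟩⟩, fun a ha => hs.faith _ (pow_mem (hAH ha) p) fun v hv =>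
    (mem_centralizer_iff.1 (hA.2.2 a ha) v hv).symm⟩
  have h := hs.faith _ (show ⁅(x : G), (y : G)⁆ ∈ H from
    mul_mem (mul_mem (mul_mem (hAH x.2) (hAH y.2)) (inv_mem (hAH x.2))) (inv_mem (hAH y.2))) fun v hv =>
    (mem_centralizer_iff.1 (hA.2.1 (commutator_mem_commutator x.2 y.2)) v hv).symm
  exact commutatorElement_eq_one_iff_mul_comm.1 h

/-- A best offender attains the bound. -/
theorem card_mul_fx_eq (hs : Setup p V H) {A : Subgroup G} (hAH : A ≤ H) (hA : Cfsg.IsBestOffenderOn p V A) :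
    Nat.card A * Nat.card (fx V A) = Nat.card V := by
  refine le_antisymm (card_mul_fx_le hs (elem_of_best hs hAH hA) hAH) ?_
  have h := hA.1 ⊥ bot_le
  rwa [card_bot, one_mul, show V ⊓ centralizer ((⊥ : Subgroup G) : Set G) = V from inf_eq_left.2
    fun v _ => mem_centralizer_iff.2 fun x hx => by simp [(mem_bot.1 hx)]] at h

theorem best_of_eq (hs : Setup p V H) {B : Subgroup G} (hB : Cfsg.IsElementaryAbelian p B) (hBH : B ≤ H)
    (h : Nat.card B * Nat.card (fx V B) = Nat.card V) : Cfsg.IsBestOffenderOn p V B := by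
  refine ⟨fun C hC => ?_, commutator_le.2 fun x hx y hy => ?_, fun b hb => ?_⟩
  · show Nat.card C * Nat.card (fx V C) ≤ Nat.card B * Nat.card (fx V B)
    rw [h]
    exact card_mul_fx_le hs ⟨⟨⟨fun x y => Subtype.ext (comm_elem hB (hC x.2) (hC y.2))⟩⟩,
      fun b hb => hB.2 b (hC hb)⟩ (hC.trans hBH)
  · rw [commutatorElement_eq_one_iff_mul_comm.2 (comm_elem hB hx hy)]; exact one_mem _
  · rw [hB.2 b hb]; exact one_mem _

theorem best_hyperplane (hs : Setup p V H) {A : Subgroup G} (hAH : A ≤ H) (hA : Cfsg.IsBestOffenderOn p V A)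
    {a : G} (ha : a ∈ A) (ha1 : a ≠ 1) :
    ∃ B ≤ A, a ∉ B ∧ p * Nat.card B = Nat.card A ∧ Cfsg.IsBestOffenderOn p V B := by
  have hAe := elem_of_best hs hAH hA
  obtain ⟨B, hBA, haB, hcard, q, hq, hc, hqa⟩ := exists_hyperplane hs hAe hAH ha ha1
  have hBe : Cfsg.IsElementaryAbelian p B :=
    ⟨⟨⟨fun x y => Subtype.ext (comm_elem hAe (hBA x.2) (hBA y.2))⟩⟩, fun b hb => hAe.2 b (hBA hb)⟩
  refine ⟨B, hBA, haB, hcard, best_of_eq hs hBe (hBA.trans hAH)
    (le_antisymm (card_mul_fx_le hs hBe (hBA.trans hAH)) ?_)⟩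
  rw [← card_mul_fx_eq hs hAH hA, ← hcard, mul_comm p, mul_assoc]
  exact Nat.mul_le_mul_left _ (fx_mul_le hs hAe hAH hBA ha hq hc hqa)

/-- `⟨a⟩` is a minimal nontrivial offender. -/
structure IsTv (p : ℕ) (V H : Subgroup G) (a : G) : Prop where
  mem : a ∈ H
  ne : a ≠ 1
  pow : a ^ p = 1
  index : p * Nat.card (fx V (zpowers a)) = Nat.card V

theorem isTv_of_card (hs : Setup p V H) {A : Subgroup G} (hAH : A ≤ H) (hA : Cfsg.IsBestOffenderOn p V A)
    (hcard : Nat.card A = p) {a : G} (ha : a ∈ A) (ha1 : a ≠ 1) : A = zpowers a ∧ IsTv p V H a := by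
  have hpow := (elem_of_best hs hAH hA).2 a ha
  have heq : A = zpowers a := (eq_of_le_of_card_ge (zpowers_le.2 ha)
    (by rw [Nat.card_zpowers, orderOf_eq_prime hpow ha1, hcard])).symm
  refine ⟨heq, hAH ha, ha1, hpow, ?_⟩
  rw [← heq, ← hcard]
  exact card_mul_fx_eq hs hAH hA

theorem best_of_isTv (hs : Setup p V H) {a : G} (ha : IsTv p V H a) :
    Cfsg.IsBestOffenderOn p V (zpowers a) := by
  refine best_of_eq hs ⟨inferInstance, fun x hx => ?_⟩ (zpowers_le.2 ha.mem) ?_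
  · obtain ⟨i, rfl⟩ := mem_zpowers_iff.1 hx
    rw [← zpow_natCast, ← zpow_mul, mul_comm, zpow_mul, zpow_natCast, ha.pow, one_zpow]
  · rw [Nat.card_zpowers, orderOf_eq_prime ha.pow ha.ne]; exact ha.index

/-- Every best offender is generated by those of order `p`. -/
theorem best_gen (hs : Setup p V H) {A : Subgroup G} (hAH : A ≤ H) (hA : Cfsg.IsBestOffenderOn p V A) :
    ∀ x ∈ A, x ∈ closure {a | a ∈ A ∧ IsTv p V H a} := by
  induction hk : Nat.card A using Nat.strong_induction_on generalizing A with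
  | _ k ih =>
    subst hk
    intro x hx
    by_cases hx1 : x = 1
    · rw [hx1]; exact one_mem _
    obtain ⟨B, hBA, hxB, hcard, hBb⟩ := best_hyperplane hs hAH hA hx hx1
    by_cases hB1 : B = ⊥
    · exact subset_closure ⟨hx, (isTv_of_card hs hAH hA (by rw [← hcard, hB1, card_bot, mul_one]) hx hx1).2⟩
    obtain ⟨b, hb, hbne⟩ := (bot_or_exists_ne_one B).resolve_left hB1
    obtain ⟨B', hB'A, hbB', hcard', hB'b⟩ := best_hyperplane hs hAH hA (hBA hb) hbne
    have hlt : ∀ {C : Subgroup G}, p * Nat.card C = Nat.card A → Nat.card C < Nat.card A := fun h => by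
      rw [← h]; exact lt_mul_of_one_lt_left Nat.card_pos hp.out.one_lt
    have h1 : B ⊔ B' ≤ closure {a | a ∈ A ∧ IsTv p V H a} := by
      refine sup_le (fun y hy => ?_) (fun y hy => ?_)
      · exact Subgroup.closure_mono (show {a | a ∈ B ∧ IsTv p V H a} ⊆ {a | a ∈ A ∧ IsTv p V H a} from
          fun z hz => ⟨hBA hz.1, hz.2⟩) (ih _ (hlt hcard) (hBA.trans hAH) hBb rfl y hy)
      · exact Subgroup.closure_mono (show {a | a ∈ B' ∧ IsTv p V H a} ⊆ {a | a ∈ A ∧ IsTv p V H a} from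
          fun z hz => ⟨hB'A hz.1, hz.2⟩) (ih _ (hlt hcard') (hB'A.trans hAH) hB'b rfl y hy)
    have htop : B ⊔ B' = A := by
      refine eq_of_le_of_card_ge (sup_le hBA hB'A) ?_
      have hlt' : Nat.card B' < Nat.card ↥(B ⊔ B') := by
        refine lt_of_le_of_ne (card_le_of_le le_sup_right) fun e => hbB' ?_
        rw [eq_of_le_of_card_ge le_sup_right e.ge]
        exact mem_sup_left hb
      obtain ⟨i, hi⟩ := IsPGroup.iff_card.1 ((isPGroup_elem (elem_of_best hs hAH hA)).to_le (sup_le hBA hB'A))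
      obtain ⟨j, -, hj⟩ := (Nat.dvd_prime_pow hp.out).1 (hi ▸ card_dvd_of_le le_sup_right : Nat.card B' ∣ p ^ i)
      rw [hi, hj] at hlt'
      rw [hi, ← hcard', hj, ← pow_succ']
      exact Nat.pow_le_pow_right hp.out.pos ((Nat.pow_lt_pow_iff_right hp.out.one_lt).1 hlt')
    exact h1 (htop.ge hx)

theorem gen_isTv (hs : Setup p V H)
    (hS3 : H = ⨆ A : {A : Subgroup G // A ≤ H ∧ Cfsg.IsBestOffenderOn p V A}, (A : Subgroup G)) :
    H ≤ closure {a | IsTv p V H a} := by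
  conv_lhs => rw [hS3]
  exact iSup_le fun A x hx => closure_mono (fun a ha => ha.2) (best_gen hs A.2.1 A.2.2 x hx)

/-- The centre of a transvection. -/
theorem exists_centre (hs : Setup p V H) {a : G} (ha : IsTv p V H a) :
    ∃ w ∈ V, w ≠ 1 ∧ a * w = w * a ∧ (deltaHom hs.elem (hs.norm ha.mem)).range = zpowers w := by
  set δ := deltaHom hs.elem (hs.norm ha.mem)
  have hker : δ.ker = (fx V (zpowers a)).subgroupOf V := by
    ext v
    rw [MonoidHom.mem_ker, mem_subgroupOf, mem_fx]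
    show ⁅a, (v : G)⁆ = 1 ↔ _
    refine ⟨fun h => ⟨v.2, fun b hb => ?_⟩, fun h => commutatorElement_eq_one_iff_mul_comm.2
      (h.2 a (mem_zpowers a))⟩
    obtain ⟨i, rfl⟩ := mem_zpowers_iff.1 hb
    exact ((show Commute a (v : G) from commutatorElement_eq_one_iff_mul_comm.1 h).zpow_left i).eq
  have hcard : Nat.card δ.range = p := by
    have h := card_mul_index δ.ker
    rw [index_ker, hker,
      Nat.card_congr (subgroupOfEquivOfLe (show fx V (zpowers a) ≤ V from inf_le_left)).toEquiv, ← ha.index,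
      mul_comm p] at h
    exact Nat.eq_of_mul_eq_mul_left Nat.card_pos h
  obtain ⟨w, hw, hw1⟩ := (bot_or_exists_ne_one δ.range).resolve_left (fun e => by
    rw [e, card_bot] at hcard; exact hp.out.ne_one hcard.symm)
  have hwV : w ∈ V := by obtain ⟨v, rfl⟩ := hw; exact comm_mem (hs.norm ha.mem) v.2
  have heq : δ.range = zpowers w := (eq_of_le_of_card_ge (zpowers_le.2 hw) (by
    rw [Nat.card_zpowers, orderOf_eq_prime (hs.elem.2 w hwV) hw1, hcard])).symm
  refine ⟨w, hwV, hw1, ?_, heq⟩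
  obtain ⟨k, hk⟩ : ∃ k : ℤ, w ^ k = ⁅a, w⁆ := mem_zpowers_iff.1 (heq ▸ (⟨⟨w, hwV⟩, rfl⟩ : ⁅a, w⁆ ∈ δ.range))
  have hconj : ∀ i : ℕ, a ^ i * w * (a ^ i)⁻¹ = w ^ ((k + 1) ^ i) := by
    intro i
    induction i with
    | zero => simp
    | succ i ih =>
      calc a ^ (i + 1) * w * (a ^ (i + 1))⁻¹ = a * (a ^ i * w * (a ^ i)⁻¹) * a⁻¹ := by rw [pow_succ']; group
        _ = (a * w * a⁻¹) ^ ((k + 1) ^ i) := by rw [ih, conj_zpow]
        _ = (⁅a, w⁆ * w) ^ ((k + 1) ^ i) := by rw [commutatorElement_def]; group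
        _ = _ := by rw [← hk, ← zpow_add_one, ← zpow_mul, pow_succ']
  have h1 := hconj p
  rw [ha.pow, one_mul, inv_one, mul_one] at h1
  have ho := orderOf_eq_prime (hs.elem.2 w hwV) hw1
  have h2 : (p : ℤ) ∣ (k + 1) ^ p - 1 := by
    rw [← ho, orderOf_dvd_iff_zpow_eq_one, zpow_sub_one, ho, ← h1, mul_inv_cancel]
  have h3 : (p : ℤ) ∣ k := by
    rw [← ZMod.intCast_zmod_eq_zero_iff_dvd] at h2 ⊢
    push_cast [ZMod.pow_card] at h2
    simpa using h2
  obtain ⟨c, rfl⟩ := h3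
  rw [zpow_mul, zpow_natCast, hs.elem.2 w hwV, one_zpow] at hk
  exact commutatorElement_eq_one_iff_mul_comm.1 hk.symm

end Cfsg.Lib.FF
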