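import Cfsg.Agent.FFModule.Summary

/-!
Coprime automorphisms permuting the factors, and diagonal subgroups.
-/

set_option autoImplicit false
set_option linter.unusedSectionVars false
set_option linter.style.haveILetI false

namespace Cfsg.Lib.FF

open Subgroup
open scoped commutatorElement

variable {G : Type*} [Group G] [Finite G]

theorem map_conj_eq {L : Subgroup G} {ξ : G} (h : ξ ∈ normalizer (L : Set G)) :
    L.map (MulAut.conj ξ).toMonoidHom = L := by
  refine eq_of_le_of_card_ge ?_ (by rw [card_map_of_injective (MulAut.conj ξ).injective])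
  rintro _ ⟨v, hv, rfl⟩
  exact conj_mem h hv

theorem mem_normalizer_of_map {L : Subgroup G} {ξ : G} (h : L.map (MulAut.conj ξ).toMonoidHom ≤ L) :
    ξ ∈ normalizer (L : Set G) :=
  not_normalize_line.mem_normalizer_of_finite_of_conj fun x hx => h ⟨x, hx, rfl⟩

/-- A diagonal of the conjugates of `M`. -/
theorem exists_diag (M Ξ : Subgroup G)
    (hdi : ∀ x ∈ Ξ, (∀ m ∈ M, x * m = m * x) ∨ (∀ m ∈ M, ∀ m' ∈ M, Commute (x * m * x⁻¹) m')) :
    ∃ δ : M →* G, (∀ x ∈ Ξ, ∀ m : M, x * δ m = δ m * x) ∧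
      (∀ T : Subgroup G, Ξ ≤ normalizer (T : Set G) → ∀ m : M, (m : G) ∈ T → δ m ∈ T) ∧
      (∀ m : M, δ m * (m : G)⁻¹ ∈ centralizer (M : Set G)) := by
  classical
  set S₀ := (Ξ ⊓ centralizer (M : Set G)).subgroupOf Ξ with hS₀
  haveI : Fintype (Ξ ⧸ S₀) := Fintype.ofFinite _
  let φ : Ξ ⧸ S₀ → (M →* G) := fun q => (MulAut.conj ((q.out : Ξ) : G)).toMonoidHom.comp M.subtype
  have hsep : ∀ q q' : Ξ ⧸ S₀, q ≠ q' → ∀ m m' : M, Commute (φ q m) (φ q' m') := by
    intro q q' hne m m'
    have hx : ((q'.out : Ξ) : G)⁻¹ * ((q.out : Ξ) : G) ∈ Ξ := mul_mem (inv_mem q'.out.2) q.out.2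
    rcases hdi _ hx with h | h
    · refine absurd ?_ hne.symm
      rw [← QuotientGroup.out_eq' q, ← QuotientGroup.out_eq' q', QuotientGroup.eq]
      exact ⟨hx, mem_centralizer_iff.2 fun m hm => (h m hm).symm⟩
    · have h1 := ((h m m.2 m' m'.2).map (MulAut.conj ((q'.out : Ξ) : G)).toMonoidHom)
      convert h1 using 1
      · show (q.out : G) * m * (q.out : G)⁻¹ = (q'.out : G) * ((q'.out : G)⁻¹ * q.out * m * ((q'.out : G)⁻¹ * q.out)⁻¹) * (q'.out : G)⁻¹
        group
      · rfl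
  have hpw : Pairwise fun q q' => ∀ m m' : M, Commute (φ q m) (φ q' m') := fun q q' h => hsep q q' h
  set P := MonoidHom.noncommPiCoprod φ hpw
  let cst : M →* (Ξ ⧸ S₀ → M) := MonoidHom.mk' (fun m _ => m) fun _ _ => rfl
  refine ⟨P.comp cst, fun x hx m => ?_, fun T hT m hm => ?_, fun m => ?_⟩
  · let σ : (Ξ ⧸ S₀ → M) →* (Ξ ⧸ S₀ → M) :=
      MonoidHom.mk' (fun f q => f ((⟨x, hx⟩ : Ξ)⁻¹ • q)) fun _ _ => rfl
    have heq : (MulAut.conj x).toMonoidHom.comp P = P.comp σ := by
      refine MonoidHom.pi_ext fun q u => ?_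
      have hs : σ (Pi.mulSingle q u) = Pi.mulSingle ((⟨x, hx⟩ : Ξ) • q) u := by
        funext q'
        show (Pi.mulSingle q u : Ξ ⧸ S₀ → M) ((⟨x, hx⟩ : Ξ)⁻¹ • q') = _
        rw [Pi.mulSingle_apply, Pi.mulSingle_apply]
        simp only [inv_smul_eq_iff]
      rw [MonoidHom.comp_apply, MonoidHom.comp_apply, hs, MonoidHom.noncommPiCoprod_mulSingle,
        MonoidHom.noncommPiCoprod_mulSingle]
      set y := (((⟨x, hx⟩ : Ξ) • q).out : G)
      have h1 : y⁻¹ * (x * (q.out : G)) ∈ centralizer (M : Set G) := by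
        have h2 : (QuotientGroup.mk (((⟨x, hx⟩ : Ξ) • q).out) : Ξ ⧸ S₀) = QuotientGroup.mk (⟨x, hx⟩ * q.out) := by
          rw [QuotientGroup.out_eq', ← smul_eq_mul, ← MulAction.Quotient.smul_mk, QuotientGroup.out_eq']
        exact (QuotientGroup.eq.1 h2).2
      show x * ((q.out : G) * u * (q.out : G)⁻¹) * x⁻¹ = y * u * y⁻¹
      have h3 := mem_centralizer_iff.1 h1 u u.2
      calc x * ((q.out : G) * u * (q.out : G)⁻¹) * x⁻¹ =
          y * ((y⁻¹ * (x * (q.out : G))) * u) * (y⁻¹ * (x * (q.out : G)))⁻¹ * y⁻¹ := by group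
        _ = _ := by rw [← h3]; group
    have h4 : x * P (cst m) * x⁻¹ = P (cst m) := DFunLike.congr_fun heq (cst m)
    exact mul_inv_eq_iff_eq_mul.1 h4
  · rw [MonoidHom.comp_apply, MonoidHom.noncommPiCoprod_apply]
    exact Subgroup.noncommProd_mem T _ fun q _ => conj_mem (hT q.out.2) hm
  · set q₀ : Ξ ⧸ S₀ := QuotientGroup.mk 1
    have hq₀ : ((q₀.out : Ξ) : G) ∈ centralizer (M : Set G) := by
      have := QuotientGroup.eq.1 (QuotientGroup.out_eq' q₀).symm
      rw [inv_one, one_mul] at this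
      exact this.2
    have hr : P (Function.update (cst m) q₀ 1) ∈ centralizer (M : Set G) := by
      rw [MonoidHom.noncommPiCoprod_apply]
      refine Subgroup.noncommProd_mem _ _ fun q _ => ?_
      by_cases hq : q = q₀
      · rw [hq, Function.update_self, map_one]; exact one_mem _
      · refine mem_centralizer_iff.2 fun m' hm' => ?_
        rw [Function.update_of_ne hq]
        rcases hdi _ q.out.2 with h | h
        · refine absurd ?_ hq
          rw [← QuotientGroup.out_eq' q]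
          have hc : ((q.out : Ξ) : G) ∈ centralizer (M : Set G) := mem_centralizer_iff.2 fun m hm => (h m hm).symm
          refine QuotientGroup.eq.2 (mem_subgroupOf.2 (mem_inf.2 ⟨SetLike.coe_mem _, ?_⟩))
          push_cast
          exact mul_mem (inv_mem hc) (one_mem _)
        · exact (h m m.2 m' hm').eq.symm
    have hsplit : cst m = Function.update (cst m) q₀ 1 * Pi.mulSingle q₀ m := by
      funext q
      by_cases hq : q = q₀
      · subst hq; simp [cst]
      · simp [cst, hq]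
    have hφ : φ q₀ m = (m : G) := by
      show (q₀.out : G) * m * (q₀.out : G)⁻¹ = m
      rw [← mem_centralizer_iff.1 hq₀ m m.2, mul_inv_cancel_right]
    rw [MonoidHom.comp_apply, hsplit, map_mul, MonoidHom.noncommPiCoprod_mulSingle, hφ, mul_inv_cancel_right]
    exact hr

variable {p : ℕ} [hp : Fact p.Prime] {V H : Subgroup G}

theorem core_conj {ξ : G} (hξ : ξ ∈ normalizer (H : Set G)) : ξ ∈ normalizer (core p H : Set G) := by
  refine mem_normalizer_of_map ?_
  set M := (core p H).map (MulAut.conj ξ).toMonoidHom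
  have hMH : M ≤ H := (map_mono (core_le H)).trans (map_conj_eq hξ).le
  have hn : H ≤ normalizer (M : Set G) := by
    conv_lhs => rw [← map_conj_eq hξ]
    exact (map_mono (le_normalizer_core H)).trans (le_normalizer_map _)
  haveI : (M.subgroupOf H).Normal := normal_subgroupOf_of_le_normalizer hn
  have h1 : M.subgroupOf H ≤ Cfsg.pPrimeCore p H := Cfsg.Lib.Components.le_pPrimeCore (by
    rw [Nat.card_congr (subgroupOfEquivOfLe hMH).toEquiv, card_map_of_injective (MulAut.conj ξ).injective]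
    exact coprime_core H)
  exact fun x hx => ⟨⟨x, hMH hx⟩, h1 hx, rfl⟩

theorem isTv_conj (_hs : Setup p V H) {a ξ : G} (ha : IsTv p V H a) (hξV : ξ ∈ normalizer (V : Set G))
    (hξH : ξ ∈ normalizer (H : Set G)) : IsTv p V H (ξ * a * ξ⁻¹) := by
  refine ⟨conj_mem hξH ha.mem, fun e => ha.ne (conj_eq_one_iff.1 e), by rw [conj_pow, ha.pow]; group, ?_⟩
  have h : fx V (zpowers (ξ * a * ξ⁻¹)) = (fx V (zpowers a)).map (MulAut.conj ξ).toMonoidHom := by
    rw [fx, fx, map_inf_eq _ _ _ (MulAut.conj ξ).injective, map_conj_eq hξV, map_centralizer_conj,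
      MonoidHom.map_zpowers]
    rfl
  rw [h, card_map_of_injective (MulAut.conj ξ).injective, ha.index]
where
  map_centralizer_conj {ξ : G} {L : Subgroup G} :
      (centralizer (L : Set G)).map (MulAut.conj ξ).toMonoidHom =
        centralizer ((L.map (MulAut.conj ξ).toMonoidHom : Subgroup G) : Set G) := by
    refine le_antisymm (map_centralizer_le_centralizer_image _ _) fun y hy => ?_
    refine ⟨ξ⁻¹ * y * ξ, mem_centralizer_iff.2 fun l hl => ?_, by
      show ξ * (ξ⁻¹ * y * ξ) * ξ⁻¹ = y; group⟩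
    have h : ξ * l * ξ⁻¹ * y = y * (ξ * l * ξ⁻¹) := mem_centralizer_iff.1 hy _ ⟨l, hl, rfl⟩
    calc l * (ξ⁻¹ * y * ξ) = ξ⁻¹ * (ξ * l * ξ⁻¹ * y) * ξ := by group
      _ = _ := by rw [h]; group

theorem epl_conj {a ξ : G} (hξH : ξ ∈ normalizer (H : Set G)) :
    (epl p H a).map (MulAut.conj ξ).toMonoidHom = epl p H (ξ * a * ξ⁻¹) := by
  rw [epl, epl, Subgroup.map_sup, map_commutator, MonoidHom.map_zpowers, map_conj_eq (core_conj hξH)]
  rfl

theorem pl_conj {a ξ : G} (hξV : ξ ∈ normalizer (V : Set G)) (hξH : ξ ∈ normalizer (H : Set G)) :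
    (pl p V H a).map (MulAut.conj ξ).toMonoidHom = pl p V H (ξ * a * ξ⁻¹) := by
  rw [pl, pl, map_commutator, map_conj_eq hξV, epl_conj hξH]

theorem card_le_card_dvd (hs : Setup p V H) {a : G} (ha : IsTv p V H a) : p * (p ^ 2 - 1) ∣ Nat.card H := by
  obtain ⟨θ⟩ := (epl_data hs ha).iso
  have := card_dvd_of_le (epl_le hs ha)
  rwa [Nat.card_congr θ.toEquiv, Cfsg.Lib.Classical.SLTwoTori.card_SL2, ZMod.card] at this

theorem five_le (hs : Setup p V H) {a : G} (ha : IsTv p V H a) {q : ℕ} (hq : q.Prime)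
    (hqH : ¬ q ∣ Nat.card H) : 5 ≤ q := by
  have h := card_le_card_dvd hs ha
  have h6 : 6 ∣ p * (p ^ 2 - 1) := by
    rcases (epl_data hs ha).small with rfl | rfl <;> norm_num
  by_contra hlt
  have := hq.two_le
  have : q ∣ 6 := by
    interval_cases q
    · norm_num
    · norm_num
    · exact absurd hq (by norm_num)
  exact hqH ((this.trans h6).trans h)

/-- An automorphism of prime order at least five fixes a group of order four or nine. -/
theorem commute_plane {P : Subgroup G} (hP : Nat.card P = p ^ 2) (hsmall : p = 2 ∨ p = 3) {ξ : G} {q : ℕ}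
    [hq : Fact q.Prime] (h5 : 5 ≤ q) (hξ : ξ ^ q = 1) (hξP : ξ ∈ normalizer (P : Set G)) :
    ∀ u ∈ P, ξ * u = u * ξ := by
  letI := MulAction.compHom ↥P ((normalizerMonoidHom P).comp (inclusion (zpowers_le.2 hξP)))
  have hpg : IsPGroup q (zpowers ξ) := fun z => ⟨1, Subtype.ext (by
    obtain ⟨i, hi⟩ := mem_zpowers_iff.1 z.2
    rw [pow_one]
    push_cast
    rw [← hi, ← zpow_natCast, ← zpow_mul, mul_comm, zpow_mul, zpow_natCast, hξ, one_zpow])⟩
  have hmod := hpg.card_modEq_card_fixedPoints ↥P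
  set F := P ⊓ centralizer ({ξ} : Set G)
  have hfix : Nat.card (MulAction.fixedPoints (zpowers ξ) ↥P) = Nat.card F := by
    refine Nat.card_congr
      { toFun := fun u => ⟨(u.1 : G), u.1.2, mem_centralizer_singleton_iff.2 ?_⟩
        invFun := fun u => ⟨⟨(u : G), u.2.1⟩, fun z => Subtype.ext ?_⟩
        left_inv := fun u => rfl
        right_inv := fun u => rfl }
    · have h : ξ * (u.1 : G) * ξ⁻¹ = u.1 := congrArg Subtype.val (u.2 ⟨ξ, mem_zpowers ξ⟩)
      exact (mul_inv_eq_iff_eq_mul.1 h).symm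
    · show (z : G) * (u : G) * (z : G)⁻¹ = u
      obtain ⟨i, hi⟩ := mem_zpowers_iff.1 z.2
      rw [← hi, ((show Commute ξ (u : G) from (mem_centralizer_singleton_iff.1 u.2.2).symm).zpow_left i).eq,
        mul_inv_cancel_right]
  rw [hfix, hP] at hmod
  obtain ⟨i, hi, hF⟩ := (Nat.dvd_prime_pow hp.out).1 (hP ▸ card_dvd_of_le (inf_le_left : F ≤ P))
  have hi2 : i = 2 := by
    by_contra hne
    rw [hF] at hmod
    have hd := (Nat.modEq_iff_dvd' (Nat.pow_le_pow_right hp.out.pos hi)).1 hmod.symm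
    have h24 : p ^ 2 - p ^ i ∣ 2 ^ 3 * 3 := by
      have hi' : i < 2 := lt_of_le_of_ne hi hne
      rcases hsmall with rfl | rfl <;> interval_cases i <;> norm_num
    rcases hq.out.dvd_mul.1 (hd.trans h24) with h | h
    · have := Nat.le_of_dvd (by norm_num) (hq.out.dvd_of_dvd_pow h); omega
    · have := Nat.le_of_dvd (by norm_num) h; omega
  subst hi2
  intro u hu
  have := (eq_of_le_of_card_ge (inf_le_left : F ≤ P) (by rw [hF, hP])).ge hu
  exact (mem_centralizer_singleton_iff.1 (mem_inf.1 this).2).symm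

/-- The dichotomy for a module-factor pair. -/
theorem dichotomy (hs : Setup p V H) (hgen : H ≤ closure {c | IsTv p V H c}) {a ξ : G} (ha : IsTv p V H a)
    {q : ℕ} [Fact q.Prime] (h5 : 5 ≤ q) (hξ : ξ ^ q = 1) (hξV : ξ ∈ normalizer (V : Set G))
    (hξH : ξ ∈ normalizer (H : Set G)) :
    (∀ m ∈ pl p V H a ⊔ epl p H a, ξ * m = m * ξ) ∨
      (∀ m ∈ pl p V H a ⊔ epl p H a, ∀ m' ∈ pl p V H a ⊔ epl p H a, Commute (ξ * m * ξ⁻¹) m') := by
  have hd := epl_data hs ha
  have hb := isTv_conj hs ha hξV hξH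
  by_cases hE : epl p H (ξ * a * ξ⁻¹) = epl p H a
  · left
    have hEn : ξ ∈ normalizer (epl p H a : Set G) := mem_normalizer_of_map ((epl_conj hξH).le.trans hE.le)
    have hPn : ξ ∈ normalizer (pl p V H a : Set G) := mem_normalizer_of_map (by
      rw [pl_conj hξV hξH, pl, pl, hE])
    have hP := commute_plane hd.card_W hd.small h5 hξ hPn
    have hEc : ∀ e ∈ epl p H a, ξ * e = e * ξ := by
      intro e he
      refine commutatorElement_eq_one_iff_mul_comm.1 (mem_bot.1 (hd.faith ▸ mem_inf.2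
        ⟨mul_mem (conj_mem hEn he) (inv_mem he), mem_centralizer_iff.2 fun u hu => ?_⟩))
      have h1 : Commute ξ u := hP u hu
      have h3 : e⁻¹ * u * e ∈ pl p V H a := by simpa using hd.D_norm _ (inv_mem he) u hu
      have h4 : Commute ξ (e⁻¹ * u * e) := hP _ h3
      symm
      refine mul_inv_eq_iff_eq_mul.1 ?_
      calc ⁅ξ, e⁆ * u * ⁅ξ, e⁆⁻¹ = ξ * e * (ξ⁻¹ * (e⁻¹ * u * e) * ξ) * e⁻¹ * ξ⁻¹ := by
            simp only [commutatorElement_def]; group
        _ = ξ * u * ξ⁻¹ := by rw [h4.inv_left.eq]; group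
        _ = u := by rw [h1.eq, mul_inv_cancel_right]
    have hle : pl p V H a ⊔ epl p H a ≤ centralizer ({ξ} : Set G) :=
      sup_le (fun u hu => mem_centralizer_singleton_iff.2 (hP u hu).symm)
        (fun e he => mem_centralizer_singleton_iff.2 (hEc e he).symm)
    exact fun m hm => (mem_centralizer_singleton_iff.1 (hle hm)).symm
  · right
    set b := ξ * a * ξ⁻¹
    obtain ⟨hk, -⟩ := iSupIndep_factors hs ![a, b] (fun i => by fin_cases i <;> assumption) (fun i j h => by
      fin_cases i <;> fin_cases j <;> simp_all)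
    obtain ⟨hb1, hb2⟩ := hk 0 1 (by decide)
    obtain ⟨ha1, ha2⟩ := hk 1 0 (by decide)
    simp only [Matrix.cons_val_zero, Matrix.cons_val_one] at hb1 hb2 ha1 ha2
    have hEE : epl p H a ≤ centralizer (epl p H b : Set G) := by
      rw [le_centralizer_iff, ← commutator_eq_bot_iff_le_centralizer, eq_bot_iff]
      exact (commutator_mono le_rfl (le_inf (epl_le hs ha) ha2)).trans (split_group hs hgen hb).2.1.le
    have hsym : ∀ {A B : Subgroup G}, A ≤ centralizer (B : Set G) → B ≤ centralizer (A : Set G) :=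
      fun h => le_centralizer_iff.1 h
    have hle : pl p V H a ⊔ epl p H a ≤ centralizer ((pl p V H b ⊔ epl p H b : Subgroup G) : Set G) := by
      refine hsym (sup_le ?_ ?_)
      · refine hsym (sup_le ?_ (hsym (hsym ha2)))
        exact fun u hu => mem_centralizer_iff.2 fun w hw =>
          comm_elem hs.elem ((epl_data hs hb).W_le hw) (hd.W_le hu)
      · exact hsym (sup_le (ha1.trans inf_le_right) hEE)
    intro m hm m' hm'
    have hmem : ξ * m * ξ⁻¹ ∈ pl p V H b ⊔ epl p H b := by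
      rw [← pl_conj hξV hξH, ← epl_conj hξH, ← Subgroup.map_sup]
      exact ⟨m, hm, rfl⟩
    exact mem_centralizer_iff.1 (hle hm') _ hmem

end Cfsg.Lib.FF
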