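import Cfsg.Agent.FFModule.Model
import Cfsg.Agent.FFModule.Diag
import Cfsg.Agent.Coprime.Action
import Cfsg.Agent.S0601
import Cfsg.Agent.S0606

/-!
A coprime group acting on a group in which the Thompson factorisation may fail.
-/

set_option autoImplicit false
set_option linter.unusedSectionVars false
set_option linter.style.haveILetI false

namespace Cfsg.Lib.FF

open Subgroup
open scoped commutatorElement

section Restrict

variable {A : Type*} [Group A] (V : Subgroup A) [V.Characteristic]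

/-- Automorphisms restricted to a characteristic subgroup. -/
def restrictAut : MulAut A →* MulAut ↥V where
  toFun φ := (φ.subgroupMap V).trans (MulEquiv.subgroupCongr (characteristic_iff_map_eq.1 inferInstance φ))
  map_one' := MulEquiv.ext fun _ => Subtype.ext rfl
  map_mul' _ _ := MulEquiv.ext fun _ => Subtype.ext rfl

@[simp] theorem restrictAut_coe (φ : MulAut A) (v : ↥V) : ((restrictAut V φ v : ↥V) : A) = φ v := rfl

end Restrict

variable {G : Type*} [Group G] [Finite G] {p : ℕ} [hp : Fact p.Prime] {K X : Subgroup G}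
  (hXK : X ≤ normalizer (K : Set G)) (V : Subgroup ↥K) [V.Characteristic]

/-- The action of `X` by conjugation on `K`. -/
def cj : ↥X →* MulAut ↥K := (normalizerMonoidHom K).comp (inclusion hXK)

theorem cj_coe (x : ↥X) (k : ↥K) : ((cj hXK x k : ↥K) : G) = x * k * (x : G)⁻¹ := rfl

/-- The image of `X` in the holomorph. -/
def xi : ↥X →* Amb V := (SemidirectProduct.inr).comp ((restrictAut V).comp (cj hXK))

theorem xi_conj (x : ↥X) (k : ↥K) : xi hXK V x * rho V k * (xi hXK V x)⁻¹ = rho V (cj hXK x k) := by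
  simp only [xi, rho, MonoidHom.comp_apply]
  rw [← map_mul, ← map_inv, ← map_mul]
  congr 1
  refine MulEquiv.ext fun v => Subtype.ext ?_
  simp only [MulAut.mul_apply, restrictAut_coe, MulAut.conjNormal_apply]
  rw [← map_inv (restrictAut V), restrictAut_coe, map_mul, map_mul, map_inv, MulAut.apply_inv_self]

theorem xi_normalizer (N : Subgroup ↥K) [N.Characteristic] (x : ↥X) :
    xi hXK V x ∈ normalizer (N.map (rho V) : Set (Amb V)) := by
  refine mem_normalizer_of_map ?_
  rintro _ ⟨_, ⟨k, hk, rfl⟩, rfl⟩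
  refine ⟨cj hXK x k, ?_, (xi_conj hXK V x k).symm⟩
  exact (characteristic_iff_map_le.1 inferInstance (cj hXK x)) ⟨k, hk, rfl⟩

theorem xi_pow {q : ℕ} (hX : Cfsg.IsElementaryAbelian q X) (y : Amb V) (hy : y ∈ (xi hXK V).range) :
    y ^ q = 1 := by
  obtain ⟨x, rfl⟩ := hy
  rw [← map_pow, show x ^ q = 1 from Subtype.ext (by push_cast; exact hX.2 x x.2), map_one]

/-- A diagonal of a plane and its factor, fixed by `X`. -/
theorem exists_fixed_pair {q : ℕ} [Fact q.Prime] (hX : Cfsg.IsElementaryAbelian q X)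
    (hq : ¬ q ∣ Nat.card K) (N : Subgroup ↥K) [N.Characteristic]
    (hs : Setup p (vx V) (N.map (rho V)))
    (hgen : N.map (rho V) ≤ closure {c | IsTv p (vx V) (N.map (rho V)) c})
    {a : Amb V} (ha : IsTv p (vx V) (N.map (rho V)) a) :
    ∃ δ : ↥(pl p (vx V) (N.map (rho V)) a ⊔ epl p (N.map (rho V)) a) →* Amb V,
      (∀ x : ↥X, ∀ m, xi hXK V x * δ m = δ m * xi hXK V x) ∧
      (∀ m : ↥(pl p (vx V) (N.map (rho V)) a ⊔ epl p (N.map (rho V)) a), (m : Amb V) ∈ vx V → δ m ∈ vx V) ∧
      (∀ m : ↥(pl p (vx V) (N.map (rho V)) a ⊔ epl p (N.map (rho V)) a), (m : Amb V) ∈ N.map (rho V) → δ m ∈ N.map (rho V)) ∧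
      (∀ m : ↥(pl p (vx V) (N.map (rho V)) a ⊔ epl p (N.map (rho V)) a), δ m * (m : Amb V)⁻¹ ∈ centralizer ((pl p (vx V) (N.map (rho V)) a ⊔
        epl p (N.map (rho V)) a : Subgroup (Amb V)) : Set (Amb V))) := by
  have hqH : ¬ q ∣ Nat.card (N.map (rho V)) := fun h =>
    hq (h.trans ((card_map_dvd N (rho V)).trans (card_subgroup_dvd_card N)))
  have h5 := five_le hs ha (Fact.out : q.Prime) hqH
  have hV : ∀ y : Amb V, y ∈ normalizer (vx V : Set (Amb V)) := fun y => le_normalizer_vx V ⊤ (mem_top y)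
  have hH : (xi hXK V).range ≤ normalizer (N.map (rho V) : Set (Amb V)) := by
    rintro _ ⟨x, rfl⟩; exact xi_normalizer hXK V N x
  obtain ⟨δ, h1, h2, h3⟩ := exists_diag (pl p (vx V) (N.map (rho V)) a ⊔ epl p (N.map (rho V)) a)
    (xi hXK V).range (fun y hy => dichotomy hs hgen ha h5 (xi_pow hXK V hX y hy) (hV y) (hH hy))
  exact ⟨δ, fun x m => h1 _ ⟨x, rfl⟩ m, fun m hm => h2 _ (fun y _ => hV y) m hm,
    fun m hm => h2 _ hH m hm, h3⟩

/-- Fixed elements of the image lift to fixed elements. -/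
theorem lift_fixed {q : ℕ} [Fact q.Prime] (hX : Cfsg.IsElementaryAbelian q X) (hq : ¬ q ∣ Nat.card K)
    (k : ↥K) (hk : ∀ x : ↥X, xi hXK V x * rho V k = rho V k * xi hXK V x) :
    ∃ k' : ↥K, rho V k' = rho V k ∧ (k' : G) ∈ centralizer (X : Set G) := by
  set N := (rho V).ker.map K.subtype
  have hXN : X ≤ normalizer (N : Set G) := fun x hx => by
    refine mem_normalizer_of_map ?_
    rintro _ ⟨_, ⟨c, hc, rfl⟩, rfl⟩
    refine ⟨cj hXK ⟨x, hx⟩ c, ?_, cj_coe hXK ⟨x, hx⟩ c⟩
    rw [SetLike.mem_coe, MonoidHom.mem_ker, ← xi_conj, MonoidHom.mem_ker.1 hc]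
    group
  have hcop : (Nat.card X).Coprime (Nat.card N) := by
    have hXq : IsPGroup q X := isPGroup_elem hX
    obtain ⟨n, hn⟩ := IsPGroup.iff_card.1 hXq
    rw [hn]
    refine Nat.Coprime.pow_left n (((Fact.out : q.Prime).coprime_iff_not_dvd).2 fun h => hq (h.trans ?_))
    exact (card_map_dvd _ K.subtype).trans (card_subgroup_dvd_card _)
  have hsol : Group.IsSolvable X := by
    haveI := (isPGroup_elem hX : IsPGroup q X).isNilpotent
    infer_instance
  obtain ⟨d, ⟨c, hc, rfl⟩, hd⟩ := Cfsg.Lib.Coprime.exists_fixed_in_coset (k := (k : G)) hXN hcop (Or.inl hsol)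
    (fun x hx => by
      refine ⟨k⁻¹ * cj hXK ⟨x, hx⟩ k, ?_, by
        show ((k⁻¹ * cj hXK ⟨x, hx⟩ k : ↥K) : G) = _
        push_cast
        rw [cj_coe]
        group⟩
      rw [SetLike.mem_coe, MonoidHom.mem_ker, map_mul, map_inv, ← xi_conj, hk, mul_inv_cancel_right,
        inv_mul_cancel])
  exact ⟨k * c, by rw [map_mul, MonoidHom.mem_ker.1 hc, mul_one], hd⟩

variable {K' : Type*} [Group K'] [Finite K']

/-- The normal closure of `Ω₁(Z(S))`. -/
def zClosure (p : ℕ) (K' : Type*) [Group K'] : Subgroup K' :=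
  ⨆ S : Sylow p K', Cfsg.omegaOne p ((S : Subgroup K') ⊓ centralizer ((S : Subgroup K') : Set K'))

instance zClosure_characteristic : (zClosure p K').Characteristic := by
  refine characteristic_iff_map_le.2 fun φ => ?_
  rw [zClosure, Subgroup.map_iSup]
  refine iSup_le fun S => le_iSup_of_le (S.mapSurjective (show Function.Surjective φ.toMonoidHom from φ.surjective)) (le_of_eq ?_)
  show (Cfsg.Lib.ThompsonFactor.omegaZ p (S : Subgroup K')).map φ.toMonoidHom = _
  rw [Cfsg.Lib.ThompsonFactor.map_omegaZ φ.injective.injOn, Sylow.coe_mapSurjective]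
  rfl

/-- The Thompson subgroup acting on the normal closure of `Ω₁(Z(S))`. -/
theorem thompson_setup (hsep : Cfsg.IsPSolvable p K') (hO : Cfsg.pPrimeCore p K' = ⊥) :
    Cfsg.IsElementaryAbelian p (zClosure p K') ∧ (Cfsg.thompsonSubgroup p K').Characteristic ∧
      ∃ _hs : Setup p (vx (zClosure p K')) ((Cfsg.thompsonSubgroup p K').map (rho (zClosure p K'))),
        (Cfsg.thompsonSubgroup p K').map (rho (zClosure p K')) ≤
          closure {c | IsTv p (vx (zClosure p K')) ((Cfsg.thompsonSubgroup p K').map (rho (zClosure p K'))) c} := by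
  set V := zClosure p K' with hVdef
  obtain ⟨-, hV, -⟩ := Cfsg.Agent.S0601.result (G := K') (p := p)
    (Cfsg.Lib.StableClosure.centralizer_pCore_le_of_pSolvable hsep hO)
  have hOC : Cfsg.pCore p (K' ⧸ centralizer (V : Set K')) = ⊥ := by
    refine Cfsg.Lib.ElemToolkit.pCore_eq_bot V (le_antisymm ?_ (iSup_le fun S => inf_le_left))
    rw [hVdef]
    refine iSup_le fun S => le_iSup_of_le S (le_inf ?_ ?_)
    · exact le_iSup (fun T : Sylow p K' =>
        Cfsg.omegaOne p ((T : Subgroup K') ⊓ centralizer ((T : Subgroup K') : Set K'))) S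
    · exact (closure_le _).2 fun x hx => hx.1.2
  haveI hJ : (Cfsg.thompsonSubgroup p K').Characteristic := by
    refine Subgroup.characteristic_iff_map_le.2 fun φ => ?_
    rw [Cfsg.thompsonSubgroup, (Subgroup.gc_map_comap _).l_sSup]
    exact iSup₂_le fun A hA => le_sSup
      ⟨(Cfsg.Lib.Thompson.isElementaryAbelian_map_iff φ.injective.injOn).2 hA.1, fun B hB => by
        rw [Subgroup.card_map_of_injective φ.injective]; exact hA.2 B hB⟩
  have hs := setup_model V hsep hV hOC (Cfsg.thompsonSubgroup p K')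
  exact ⟨hV, hJ, hs, gen_isTv hs (thompson_gen V fun A hA => Cfsg.Agent.S0606.result V hV A hA)⟩

/-- A normal subgroup containing `J(S)` is supplemented by its normaliser. -/
theorem frattini_thompson (N : Subgroup K') [N.Normal] (S : Sylow p K')
    (hJ : Cfsg.thompsonSubgroupOf p (S : Subgroup K') ≤ N) :
    N ⊔ normalizer (Cfsg.thompsonSubgroupOf p (S : Subgroup K') : Set K') = ⊤ := by
  have hJC : Cfsg.thompsonSubgroupOf p (S : Subgroup K') ≤ (S : Subgroup K') ⊓ N :=
    le_inf (Cfsg.Lib.Thompson.thompsonSubgroupOf_le _) hJ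
  have hJeq : Cfsg.thompsonSubgroupOf p ((S : Subgroup K') ⊓ N) = Cfsg.thompsonSubgroupOf p (S : Subgroup K') := by
    rw [Cfsg.Lib.Thompson.thompsonSubgroupOf_eq, Cfsg.Lib.Thompson.thompsonSubgroupOf_eq]
    obtain ⟨A₀, hA₀⟩ := Cfsg.Lib.Thompson.exists_isMaxElem (p := p) (S : Subgroup K')
    have h0 : A₀ ≤ (S : Subgroup K') ⊓ N :=
      le_trans (by rw [Cfsg.Lib.Thompson.thompsonSubgroupOf_eq]; exact le_sSup hA₀) hJC
    congr 1
    ext A
    constructor
    · exact fun hA => ⟨hA.1.trans inf_le_left, hA.2.1, fun B hB hBe =>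
        (hA₀.2.2 B hB hBe).trans (hA.2.2 A₀ h0 hA₀.2.1)⟩
    · exact fun hA => ⟨le_trans (by rw [Cfsg.Lib.Thompson.thompsonSubgroupOf_eq]; exact le_sSup hA) hJC, hA.2.1,
        fun B hB hBe => hA.2.2 B (hB.trans inf_le_left) hBe⟩
  obtain ⟨T, hT⟩ : ∃ T : Sylow p N, (T : Subgroup N).map N.subtype = (S : Subgroup K') ⊓ N :=
    ⟨_, (map_sylow_inf S N).choose_spec⟩
  have hfr := Sylow.normalizer_sup_eq_top T
  rw [hT, sup_comm] at hfr
  refine top_le_iff.1 (hfr.ge.trans (sup_le_sup le_rfl ?_))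
  rw [← hJeq]
  exact Cfsg.Lib.Thompson.normalizer_le_normalizer_thompson _
where
  map_sylow_inf (S : Sylow p K') (N : Subgroup K') [N.Normal] :
      ∃ T : Sylow p N, (T : Subgroup N).map N.subtype = (S : Subgroup K') ⊓ N := by
    obtain ⟨T, hT⟩ := (S.isPGroup'.comap_subtype (K := N)).exists_le_sylow
    refine ⟨T, le_antisymm ?_ ?_⟩
    · have hTp : IsPGroup p ((T : Subgroup N).map N.subtype) := T.isPGroup'.map _
      refine le_inf ?_ (map_subtype_le _)
      obtain ⟨R, hR⟩ := hTp.exists_le_sylow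
      obtain ⟨a, ha⟩ := MulAction.exists_smul_eq K' R S
      have hcard : Nat.card ((T : Subgroup N).map N.subtype) ≤ Nat.card ↥((S : Subgroup K') ⊓ N) := by
        refine (card_map_of_injective (f := (MulAut.conj a).toMonoidHom) (MulAut.conj a).injective).symm.le.trans
          (Subgroup.card_le_of_le (le_inf ?_ ?_))
        · rw [← ha, Sylow.coe_subgroup_smul]; exact map_mono hR
        · rintro _ ⟨x, hx, rfl⟩
          exact (inferInstance : N.Normal).conj_mem _ (map_subtype_le _ hx) a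
      have hle : (S : Subgroup K') ⊓ N ≤ (T : Subgroup N).map N.subtype := fun x hx =>
        ⟨⟨x, hx.2⟩, hT hx.1, rfl⟩
      exact (eq_of_le_of_card_ge hle hcard) ▸ inf_le_left
    · exact fun x hx => ⟨⟨x, hx.2⟩, hT hx.1, rfl⟩

end Cfsg.Lib.FF
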