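import Cfsg.Agent.FFModule.Basic

/-!
Minimal nontrivially acting best offenders and decompositions into them.
-/

set_option autoImplicit false
set_option linter.unusedSectionVars false
set_option linter.style.haveILetI false

namespace Cfsg.Lib.FF

open Subgroup
open scoped commutatorElement

variable {G : Type*} [Group G] [Finite G] {p : ℕ} [hp : Fact p.Prime] {V H : Subgroup G}

/-- Commutators of a transvection with `V` stay in its centre. -/
theorem comm_pow_mem (hs : Setup p V H) {a w : G} (ha : IsTv p V H a) (haw : a * w = w * a)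
    (hr : (deltaHom hs.elem (hs.norm ha.mem)).range = zpowers w) (k : ℕ) {v : G} (hv : v ∈ V) :
    ⁅a ^ k, v⁆ ∈ zpowers w := by
  induction k with
  | zero => simp
  | succ k ih =>
    have h1 : ⁅a, v⁆ ∈ zpowers w := hr ▸ ⟨⟨v, hv⟩, rfl⟩
    rw [show ⁅a ^ (k + 1), v⁆ = a * ⁅a ^ k, v⁆ * a⁻¹ * ⁅a, v⁆ by
      simp only [commutatorElement_def, pow_succ']; group]
    refine mul_mem ?_ h1
    obtain ⟨i, hi⟩ := mem_zpowers_iff.1 ih
    rw [← hi, ((show Commute a w from haw).zpow_right i).eq, mul_inv_cancel_right]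
    exact zpow_mem (mem_zpowers w) i

theorem commutator_zpowers_eq (hs : Setup p V H) {a w : G} (ha : IsTv p V H a) (haw : a * w = w * a)
    (hr : (deltaHom hs.elem (hs.norm ha.mem)).range = zpowers w) : ⁅V, zpowers a⁆ = zpowers w := by
  refine le_antisymm (commutator_le.2 fun v hv x hx => ?_) (zpowers_le.2 ?_)
  · obtain ⟨k, rfl⟩ := (mem_powers_iff_mem_zpowers (x := a)).2 hx
    rw [← commutatorElement_inv]
    exact inv_mem (comm_pow_mem hs ha haw hr k hv)
  · obtain ⟨v, hv⟩ := (hr.symm ▸ mem_zpowers w : w ∈ (deltaHom hs.elem (hs.norm ha.mem)).range)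
    have hv' : ⁅a, (v : G)⁆ = w := hv
    rw [← hv', ← commutatorElement_inv]
    exact inv_mem (commutator_mem_commutator v.2 (mem_zpowers a))

theorem commutator_eq_bot_iff_eq_bot (hs : Setup p V H) {B : Subgroup G} (hB : B ≤ H) :
    ⁅V, B⁆ = ⊥ ↔ B = ⊥ := by
  refine ⟨fun h => ?_, fun h => by rw [h, commutator_bot_right]⟩
  refine eq_bot_iff.2 fun b hb => ?_
  rw [commutator_comm, commutator_eq_bot_iff_le_centralizer] at h
  exact mem_bot.2 (hs.faith b (hB hb) fun v hv => (mem_centralizer_iff.1 (h hb) v hv).symm)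

/-- A minimal nontrivially acting best offender is generated by a transvection. -/
theorem exists_tv_of_minimal (hs : Setup p V H) {A : Subgroup G} (hAH : A ≤ H)
    (hA : Cfsg.IsBestOffenderOn p V A) (hAV : ⁅V, A⁆ ≠ ⊥)
    (hmin : ∀ B : Subgroup G, B ≤ A → Cfsg.IsBestOffenderOn p V B → ⁅V, B⁆ ≠ ⊥ → B = A) :
    ∃ a, IsTv p V H a ∧ A = zpowers a := by
  have hA1 : A ≠ ⊥ := fun e => hAV ((commutator_eq_bot_iff_eq_bot hs hAH).2 e)
  obtain ⟨a, ha, hne⟩ := (bot_or_exists_ne_one A).resolve_left hA1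
  obtain ⟨B, hBA, haB, hcard, hBb⟩ := best_hyperplane hs hAH hA ha hne
  have hB1 : B = ⊥ := by
    by_contra h
    have := hmin B hBA hBb fun e => h ((commutator_eq_bot_iff_eq_bot hs (hBA.trans hAH)).1 e)
    exact haB (this.symm ▸ ha)
  obtain ⟨e, ht⟩ := isTv_of_card hs hAH hA (by rw [← hcard, hB1, card_bot, mul_one]) ha hne
  exact ⟨a, ht, e⟩

theorem eq_bot_or_eq_of_le_zpowers {a : G} (ha : a ^ p = 1) {C : Subgroup G} (hC : C ≤ zpowers a) :
    C = ⊥ ∨ C = zpowers a := by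
  rcases (Nat.dvd_prime hp.out).1 ((card_dvd_of_le hC).trans
      ((Nat.card_zpowers a).symm ▸ orderOf_dvd_of_pow_eq_one ha)) with h | h
  · exact Or.inl (card_eq_one.1 h)
  · refine Or.inr (eq_of_le_of_card_ge hC ?_)
    rw [Nat.card_zpowers, h]
    exact Nat.le_of_dvd hp.out.pos (orderOf_dvd_of_pow_eq_one ha)

/-- Decomposition into minimal offenders. -/
theorem exists_decomposition (hs : Setup p V H) {A : Subgroup G} (hAH : A ≤ H)
    (hA : Cfsg.IsBestOffenderOn p V A) :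
    ∃ (k : ℕ) (B : Fin k → Subgroup G), (∀ i, B i ≤ A ∧ Cfsg.IsBestOffenderOn p V (B i) ∧ ⁅V, B i⁆ ≠ ⊥ ∧
      ∀ C : Subgroup G, C ≤ B i → Cfsg.IsBestOffenderOn p V C → ⁅V, C⁆ ≠ ⊥ → C = B i) ∧
      iSupIndep B ∧ ⨆ i, B i = A := by
  classical
  have hex : ∃ (k : ℕ) (f : Fin k → G), (∀ i, f i ∈ A ∧ IsTv p V H (f i)) ∧ ⨆ i, zpowers (f i) = A := by
    haveI := Fintype.ofFinite G
    set s : Finset G := Finset.univ.filter fun a => a ∈ A ∧ IsTv p V H a
    refine ⟨s.card, fun i => (s.equivFin.symm i : G),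
      fun i => (Finset.mem_filter.1 (s.equivFin.symm i).2).2, le_antisymm
        (iSup_le fun i => zpowers_le.2 (Finset.mem_filter.1 (s.equivFin.symm i).2).2.1) fun x hx => ?_⟩
    refine (closure_le _).2 ?_ (best_gen hs hAH hA x hx)
    intro a ha
    have hmem : a ∈ s := Finset.mem_filter.2 ⟨Finset.mem_univ _, ha⟩
    exact mem_iSup_of_mem (s.equivFin ⟨a, hmem⟩) (by simp)
  obtain ⟨f, hf, hsup⟩ := Nat.find_spec hex
  have hmin := fun j (hj : j < Nat.find hex) => Nat.find_min hex hj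
  refine ⟨Nat.find hex, fun i => zpowers (f i), fun i => ⟨zpowers_le.2 (hf i).1, best_of_isTv hs (hf i).2,
    fun e => (hf i).2.ne (zpowers_eq_bot.1 ((commutator_eq_bot_iff_eq_bot hs (zpowers_le.2 (hf i).2.mem)).1 e)),
    fun C hC _ hCne => (eq_bot_or_eq_of_le_zpowers (hf i).2.pow hC).resolve_left fun e => hCne (by
      rw [e, commutator_bot_right])⟩, fun i => ?_, hsup⟩
  rw [disjoint_iff]
  refine (eq_bot_or_eq_of_le_zpowers (hf i).2.pow inf_le_left).resolve_right fun e => ?_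
  have hle : zpowers (f i) ≤ ⨆ j, ⨆ (_ : j ≠ i), zpowers (f j) := e ▸ inf_le_right
  obtain ⟨m, hm⟩ : ∃ m, Nat.find hex = m + 1 := ⟨Nat.find hex - 1, by have := i.2; omega⟩
  refine hmin m (by omega) ⟨fun j => f (Fin.cast hm.symm ((Fin.cast hm i).succAbove j)), fun j => hf _, ?_⟩
  refine le_antisymm (iSup_le fun j => zpowers_le.2 (hf _).1) ?_
  conv_lhs => rw [← hsup]
  have hothers : ∀ j, j ≠ i →
      zpowers (f j) ≤ ⨆ j' : Fin m, zpowers (f (Fin.cast hm.symm ((Fin.cast hm i).succAbove j'))) := by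
    intro j hj
    obtain ⟨j', hj'⟩ := Fin.exists_succAbove_eq (x := Fin.cast hm j) (y := Fin.cast hm i)
      (fun h => hj (Fin.cast_injective _ h))
    refine le_trans (le_of_eq ?_) (le_iSup _ j')
    rw [hj']
    rfl
  refine iSup_le fun j => ?_
  rcases eq_or_ne j i with rfl | hj
  · exact hle.trans (iSup₂_le hothers)
  · exact hothers j hj

end Cfsg.Lib.FF
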