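import Cfsg.Agent.FFModule.Minimal
import Cfsg.Agent.Coprime.Basic
import Cfsg.Agent.Thompson.ElemToolkit
import Cfsg.Agent.Quadratic.SLTwoDickson
import Cfsg.Agent.Quadratic.Natural
import Cfsg.Agent.PLocal.ActionStable

/-!
Two conjugate transvections generate `SL₂(p)` on a plane, which contains all their conjugates.
-/

set_option autoImplicit false
set_option linter.unusedSectionVars false
set_option linter.style.haveILetI false

namespace Cfsg.Lib.FF

open Subgroup Matrix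
open scoped commutatorElement

variable {G : Type*} [Group G] [Finite G] {p : ℕ} [hp : Fact p.Prime] {V H : Subgroup G}

/-- A transvection with its centre. -/
structure HasCtr (p : ℕ) (V H : Subgroup G) (a w : G) : Prop where
  tv : IsTv p V H a
  memV : w ∈ V
  ne : w ≠ 1
  comm : a * w = w * a
  range : ∀ v ∈ V, ⁅a, v⁆ ∈ zpowers w
  surj : ∃ v ∈ V, ⁅a, v⁆ = w

theorem exists_hasCtr (hs : Setup p V H) {a : G} (ha : IsTv p V H a) : ∃ w, HasCtr p V H a w := by
  obtain ⟨w, h1, h2, h3, h4⟩ := exists_centre hs ha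
  refine ⟨w, ha, h1, h2, h3, fun v hv => h4 ▸ ⟨⟨v, hv⟩, rfl⟩, ?_⟩
  obtain ⟨v, hv⟩ := (h4.symm ▸ mem_zpowers w : w ∈ (deltaHom hs.elem (hs.norm ha.mem)).range)
  exact ⟨v, v.2, hv⟩

theorem conj_inv_mem {V : Subgroup G} {g v : G} (hg : g ∈ normalizer (V : Set G)) (hv : v ∈ V) :
    g⁻¹ * v * g ∈ V := by simpa using conj_mem (inv_mem hg) hv

theorem HasCtr.conj (hs : Setup p V H) {a w h : G} (ha : HasCtr p V H a w) (hh : h ∈ H) :
    HasCtr p V H (h * a * h⁻¹) (h * w * h⁻¹) := by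
  have hn := hs.norm hh
  refine ⟨⟨mul_mem (mul_mem hh ha.tv.mem) (inv_mem hh), fun e => ha.tv.ne (conj_eq_one_iff.1 e), by
    rw [conj_pow, ha.tv.pow]; group, ?_⟩, conj_mem hn ha.memV, fun e => ha.ne (conj_eq_one_iff.1 e), ?_, ?_, ?_⟩
  · have h1 : fx V (zpowers (h * a * h⁻¹)) = (fx V (zpowers a)).map (MulAut.conj h).toMonoidHom := by
      ext x
      rw [mem_map_equiv, mem_fx, mem_fx, MulAut.conj_symm_apply]
      refine ⟨fun ⟨h1, h2⟩ => ⟨conj_inv_mem hn h1, fun b hb => ?_⟩, fun ⟨h1, h2⟩ => ⟨?_, fun b hb => ?_⟩⟩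
      · obtain ⟨i, rfl⟩ := mem_zpowers_iff.1 hb
        have := h2 ((h * a * h⁻¹) ^ i) (zpow_mem (mem_zpowers _) i)
        rw [conj_zpow] at this
        calc a ^ i * (h⁻¹ * x * h) = h⁻¹ * ((h * a ^ i * h⁻¹) * x) * h := by group
          _ = _ := by rw [this]; group
      · simpa [mul_assoc] using conj_mem hn h1
      · obtain ⟨i, rfl⟩ := mem_zpowers_iff.1 hb
        rw [conj_zpow]
        have := h2 (a ^ i) (zpow_mem (mem_zpowers _) i)
        calc h * a ^ i * h⁻¹ * x = h * (a ^ i * (h⁻¹ * x * h)) * h⁻¹ := by group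
          _ = _ := by rw [this]; group
    rw [h1, card_map_of_injective (MulAut.conj h).injective, ha.tv.index]
  · calc h * a * h⁻¹ * (h * w * h⁻¹) = h * (a * w) * h⁻¹ := by group
      _ = _ := by rw [ha.comm]; group
  · intro v hv
    obtain ⟨i, hi⟩ := mem_zpowers_iff.1 (ha.range _ (conj_inv_mem hn hv))
    refine mem_zpowers_iff.2 ⟨i, ?_⟩
    rw [conj_zpow, hi]
    simp only [commutatorElement_def]
    group
  · obtain ⟨v, hv, e⟩ := ha.surj
    refine ⟨h * v * h⁻¹, conj_mem hn hv, ?_⟩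
    rw [← e]
    simp only [commutatorElement_def]
    group

/-- The subgroup in which the conjugates live. -/
def amb (p : ℕ) (H : Subgroup G) (a : G) : Subgroup G := core p H ⊔ zpowers a

theorem amb_le (hs : Setup p V H) {a : G} (ha : IsTv p V H a) : amb p H a ≤ H :=
  sup_le (core_le H) (zpowers_le.2 ha.mem)

theorem card_amb {a : G} (ha : IsTv p V H a) : Nat.card (amb p H a) = Nat.card (core p H) * p := by
  rw [amb, Cfsg.Lib.Coprime.card_sup_coprime ((zpowers_le.2 ha.mem).trans (le_normalizer_core H)),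
    Nat.card_zpowers, orderOf_eq_prime ha.pow ha.ne]
  rw [Nat.card_zpowers, orderOf_eq_prime ha.pow ha.ne]
  exact coprime_core H

theorem eq_of_pgroup_amb {a : G} (ha : IsTv p V H a) {P : Subgroup G} (hP : IsPGroup p P)
    (hle : P ≤ amb p H a) {x y : G} (hx : x ∈ P) (hy : y ∈ P) (hx1 : x ≠ 1) (hy1 : y ≠ 1) :
    zpowers x = zpowers y := by
  obtain ⟨i, hi⟩ := IsPGroup.iff_card.1 hP
  have hdvd : Nat.card P ∣ Nat.card (core p H) * p := card_amb ha ▸ card_dvd_of_le hle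
  have hdvd' : Nat.card P ∣ p := (Nat.Coprime.dvd_of_dvd_mul_left (by
    rw [hi]; exact (coprime_core H).symm.pow_left i) hdvd)
  have key : ∀ z ∈ P, z ≠ 1 → zpowers z = P := fun z hz hz1 => by
    refine eq_of_le_of_card_ge (zpowers_le.2 hz) ?_
    rw [Nat.card_zpowers]
    have h1 : orderOf z ∣ p := by
      have h := orderOf_dvd_natCard (⟨z, hz⟩ : P)
      rw [orderOf_mk] at h
      exact h.trans hdvd'
    rcases (Nat.dvd_prime hp.out).1 h1 with h | h
    · exact absurd (orderOf_eq_one_iff.1 h) hz1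
    · rw [h]; exact Nat.le_of_dvd hp.out.pos hdvd'
  rw [key x hx hx1, key y hy hy1]

theorem pow_conj_of_shift {g u v : G} (hgu : g * u = u * g) (hv : g * v * g⁻¹ = u * v) :
    ∀ i : ℕ, g ^ i * v * (g ^ i)⁻¹ = u ^ i * v := by
  intro i
  induction i with
  | zero => simp
  | succ i ih =>
    calc g ^ (i + 1) * v * (g ^ (i + 1))⁻¹ = g * (g ^ i * v * (g ^ i)⁻¹) * g⁻¹ := by rw [pow_succ']; group
      _ = (g * u * g⁻¹) ^ i * (g * v * g⁻¹) := by rw [ih, conj_pow]; group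
      _ = _ := by rw [show g * u * g⁻¹ = u by rw [hgu, mul_inv_cancel_right], hv, ← mul_assoc, pow_succ]

/-- Stabilisers of a short chain form a `p`-group. -/
theorem isPGroup_of_chain (hs : Setup p V H) {L : Subgroup G} (hL : L ≤ H) {U T : Subgroup G} (hTU : T ≤ U)
    (hUV : U ≤ V) (h1 : ∀ g ∈ L, ∀ t ∈ T, g * t = t * g) (h2 : ∀ g ∈ L, ∀ u ∈ U, ⁅g, u⁆ ∈ T)
    (h3 : ∀ g ∈ L, ∀ v ∈ V, ⁅g, v⁆ ∈ U) : IsPGroup p L := by
  rintro ⟨g, hg⟩
  refine ⟨2, Subtype.ext ?_⟩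
  show g ^ p ^ 2 = 1
  refine hs.faith _ (pow_mem (hL hg) _) fun v hv => ?_
  have hfixU : ∀ u ∈ U, g ^ p * u = u * g ^ p := fun u hu => by
    have h := pow_conj_of_shift (h1 g hg _ (h2 g hg u hu))
      (show g * u * g⁻¹ = ⁅g, u⁆ * u by rw [commutatorElement_def]; group) p
    rw [hs.elem.2 _ (hUV (hTU (h2 g hg u hu))), one_mul] at h
    exact mul_inv_eq_iff_eq_mul.1 h
  have hgp := h3 _ (pow_mem hg p) v hv
  have h := pow_conj_of_shift (hfixU _ hgp)
    (show g ^ p * v * (g ^ p)⁻¹ = ⁅g ^ p, v⁆ * v by rw [commutatorElement_def]; group) p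
  rw [hs.elem.2 _ (hUV hgp), one_mul, ← pow_mul, ← pow_two] at h
  exact mul_inv_eq_iff_eq_mul.1 h

theorem not_fix_centre (hs : Setup p V H) {a : G} (ha : IsTv p V H a) {x y wx wy : G}
    (hx : HasCtr p V H x wx) (hy : HasCtr p V H y wy) (hxK : x ∈ amb p H a) (hyK : y ∈ amb p H a)
    (hne : zpowers x ≠ zpowers y) : y * wx ≠ wx * y := by
  intro hfix
  set T := zpowers wx
  set U := zpowers wx ⊔ zpowers wy
  have hUV : U ≤ V := sup_le (zpowers_le.2 hx.memV) (zpowers_le.2 hy.memV)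
  let L : Subgroup G :=
    { carrier := {g | g ∈ normalizer (V : Set G) ∧ (∀ t ∈ T, g * t = t * g) ∧ (∀ u ∈ U, ⁅g, u⁆ ∈ T) ∧
        ∀ v ∈ V, ⁅g, v⁆ ∈ U}
      one_mem' := ⟨one_mem _, fun t _ => by simp, fun u _ => by simp, fun v _ => by simp⟩
      mul_mem' := fun {g k} hg hk => by
        refine ⟨mul_mem hg.1 hk.1, fun t ht => by rw [mul_assoc, hk.2.1 t ht, ← mul_assoc, hg.2.1 t ht, mul_assoc],
          fun u hu => ?_, fun v hv => ?_⟩
        · rw [show ⁅g * k, u⁆ = g * ⁅k, u⁆ * g⁻¹ * ⁅g, u⁆ by simp only [commutatorElement_def]; group,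
            hg.2.1 _ (hk.2.2.1 u hu), mul_inv_cancel_right]
          exact mul_mem (hk.2.2.1 u hu) (hg.2.2.1 u hu)
        · rw [show ⁅g * k, v⁆ = ⁅g, ⁅k, v⁆⁆ * ⁅k, v⁆ * ⁅g, v⁆ by simp only [commutatorElement_def]; group]
          exact mul_mem (mul_mem (le_sup_left (a := T) (hg.2.2.1 _ (hk.2.2.2 v hv))) (hk.2.2.2 v hv))
            (hg.2.2.2 v hv)
      inv_mem' := fun {g} hg => by
        have ht' : ∀ t ∈ T, g⁻¹ * t = t * g⁻¹ := fun t ht => ((show Commute g t from hg.2.1 t ht).inv_left).eq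
        have hu' : ∀ u ∈ U, ⁅g⁻¹, u⁆ ∈ T := fun u hu => by
          have h := hg.2.2.1 u hu
          rw [show ⁅g⁻¹, u⁆ = g⁻¹ * ⁅g, u⁆⁻¹ * g by simp only [commutatorElement_def]; group,
            ht' _ (inv_mem h), inv_mul_cancel_right]
          exact inv_mem h
        refine ⟨inv_mem hg.1, ht', hu', fun v hv => ?_⟩
        have h := hg.2.2.2 v hv
        rw [show ⁅g⁻¹, v⁆ = ⁅g⁻¹, ⁅g, v⁆⁻¹⁆ * ⁅g, v⁆⁻¹ by simp only [commutatorElement_def]; group]
        exact mul_mem (le_sup_left (a := T) (hu' _ (inv_mem h))) (inv_mem h) }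
  have hmem : ∀ z : G, z ∈ L ↔ z ∈ normalizer (V : Set G) ∧ (∀ t ∈ T, z * t = t * z) ∧
      (∀ u ∈ U, ⁅z, u⁆ ∈ T) ∧ ∀ v ∈ V, ⁅z, v⁆ ∈ U := fun _ => Iff.rfl
  have hfz : ∀ z : G, z * wx = wx * z → ∀ t ∈ T, z * t = t * z := by
    intro z hz t ht
    obtain ⟨i, rfl⟩ := mem_zpowers_iff.1 ht
    exact ((show Commute z wx from hz).zpow_right i).eq
  have hxL : x ∈ L := (hmem x).2 ⟨hs.norm hx.tv.mem, hfz x hx.comm, fun u hu => hx.range u (hUV hu),
    fun v hv => le_sup_left (a := T) (hx.range v hv)⟩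
  have hyL : y ∈ L := by
    refine (hmem y).2 ⟨hs.norm hy.tv.mem, hfz y hfix, fun u hu => ?_,
      fun v hv => le_sup_right (b := zpowers wy) (hy.range v hv)⟩
    have h1 : U ≤ centralizer ({y} : Set G) := sup_le
      (zpowers_le.2 (mem_centralizer_singleton_iff.2 hfix.symm))
      (zpowers_le.2 (mem_centralizer_singleton_iff.2 hy.comm.symm))
    rw [commutatorElement_eq_one_iff_mul_comm.2 (mem_centralizer_singleton_iff.1 (h1 hu)).symm]
    exact one_mem _
  have hP : IsPGroup p ↥(L ⊓ H) := isPGroup_of_chain hs inf_le_right (le_sup_left : T ≤ U) hUV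
    (fun g hg => ((hmem g).1 hg.1).2.1) (fun g hg => ((hmem g).1 hg.1).2.2.1) fun g hg => ((hmem g).1 hg.1).2.2.2
  exact hne (eq_of_pgroup_amb ha (hP.to_le (inf_le_left : (L ⊓ H) ⊓ amb p H a ≤ L ⊓ H)) inf_le_right
    ⟨⟨hxL, hx.tv.mem⟩, hxK⟩ ⟨⟨hyL, hy.tv.mem⟩, hyK⟩ hx.tv.ne hy.tv.ne)

/-- Powers with exponent in `ZMod p`. -/
def pw (g : G) (i : ZMod p) : G := g ^ i.val

theorem pw_add {g : G} (hg : g ^ p = 1) (i j : ZMod p) : pw g (i + j) = pw g i * pw g j := by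
  rw [pw, pw, pw, ZMod.val_add, ← pow_add, ← pow_mod_orderOf g ((i.val + j.val) % p),
    ← pow_mod_orderOf g (i.val + j.val), Nat.mod_mod_of_dvd _ (orderOf_dvd_of_pow_eq_one hg)]

theorem pw_one {g : G} : pw g (1 : ZMod p) = g := by rw [pw, ZMod.val_one, pow_one]

theorem pw_zero {g : G} : pw g (0 : ZMod p) = 1 := by rw [pw, ZMod.val_zero, pow_zero]

theorem pw_mul {g : G} (hg : g ^ p = 1) (i j : ZMod p) : pw (pw g i) j = pw g (i * j) := by
  rw [pw, pw, pw, ← pow_mul, ZMod.val_mul, ← pow_mod_orderOf g ((i.val * j.val) % p),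
    ← pow_mod_orderOf g (i.val * j.val), Nat.mod_mod_of_dvd _ (orderOf_dvd_of_pow_eq_one hg)]

theorem pw_mem {K : Subgroup G} {g : G} (hg : g ∈ K) (i : ZMod p) : pw g i ∈ K := pow_mem hg _

theorem exists_pw_of_mem_zpowers {g x : G} (hg : g ^ p = 1) (hx : x ∈ zpowers g) :
    ∃ i : ZMod p, x = pw g i := by
  obtain ⟨k, rfl⟩ := (mem_powers_iff_mem_zpowers (x := g)).2 hx
  refine ⟨(k : ZMod p), ?_⟩
  rw [pw, ZMod.val_natCast, ← pow_mod_orderOf g (k % p), Nat.mod_mod_of_dvd _ (orderOf_dvd_of_pow_eq_one hg),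
    pow_mod_orderOf]

theorem pw_ne_one {g : G} (hg : g ^ p = 1) (hg1 : g ≠ 1) {i : ZMod p} (hi : i ≠ 0) : pw g i ≠ 1 := by
  intro e
  have := pw_mul hg i i⁻¹
  rw [mul_inv_cancel₀ hi, pw_one, e, pw, one_pow] at this
  exact hg1 this.symm

/-- The coordinates of the plane. -/
def co (w₁ w₂ : G) (v : Fin 2 → ZMod p) : G := pw w₁ (v 0) * pw w₂ (v 1)

/-- The data of two conjugate transvections and what they generate. -/
structure PlaneData (p : ℕ) (V H : Subgroup G) (a : G) (D W : Subgroup G) : Prop where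
  small : p = 2 ∨ p = 3
  iso : Nonempty (↥D ≃* Matrix.SpecialLinearGroup (Fin 2) (ZMod p))
  card_W : Nat.card W = p ^ 2
  W_eq : ⁅V, D⁆ = W
  W_le : W ≤ V
  inf_fx : W ⊓ fx V D = ⊥
  sup_fx : W ⊔ fx V D = V
  faith : D ⊓ centralizer (W : Set G) = ⊥
  D_norm : ∀ d ∈ D, ∀ u ∈ W, d * u * d⁻¹ ∈ W
  le_amb : D ≤ amb p H a
  mem : a ∈ D
  absorb : ∀ c ∈ amb p H a, IsTv p V H c → c ∈ D
  lines : ∀ u ∈ W, u ≠ 1 → ∃ c ∈ D, HasCtr p V H c u

theorem amb_comm {a : G} (ha : IsTv p V H a) {x y : G} (hx : x ∈ amb p H a) (hy : y ∈ amb p H a) :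
    ⁅x, y⁆ ∈ core p H := by
  have hn : zpowers a ≤ normalizer (core p H : Set G) := (zpowers_le.2 ha.mem).trans (le_normalizer_core H)
  rw [amb, sup_comm, ← SetLike.mem_coe, coe_mul_of_left_le_normalizer_right _ _ hn, Set.mem_mul] at hx hy
  obtain ⟨s, hs, q, hq, rfl⟩ := hx
  obtain ⟨t, ht, r, hr, rfl⟩ := hy
  have hst : Commute s t := by
    obtain ⟨i, rfl⟩ := mem_zpowers_iff.1 hs
    obtain ⟨j, rfl⟩ := mem_zpowers_iff.1 ht
    exact (Commute.refl a).zpow_zpow i j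
  have h1 : ⁅s * q, t * r⁆ = (s * (q * (t * r * t⁻¹)) * s⁻¹) * ((t * s) * q⁻¹ * (t * s)⁻¹) * (t * r⁻¹ * t⁻¹) := by
    have e : t * s * t⁻¹ * s⁻¹ = 1 := by rw [← hst.eq]; group
    calc ⁅s * q, t * r⁆ = s * q * t * r * q⁻¹ * s⁻¹ * r⁻¹ * t⁻¹ := by rw [commutatorElement_def]; group
      _ = (s * (q * (t * r * t⁻¹)) * s⁻¹) * (s * t) * q⁻¹ * s⁻¹ * r⁻¹ * t⁻¹ := by group
      _ = (s * (q * (t * r * t⁻¹)) * s⁻¹) * (t * s) * q⁻¹ * s⁻¹ * r⁻¹ * t⁻¹ := by rw [hst.eq]
      _ = _ := by group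
  rw [h1]
  refine mul_mem (mul_mem (conj_mem (hn hs) (mul_mem hq (conj_mem (hn ht) hr))) ?_) (conj_mem (hn ht) (inv_mem hr))
  exact conj_mem (mul_mem (hn ht) (hn hs)) (inv_mem hq)

theorem planeData (hs : Setup p V H) {a b w₁ w₂ : G} (ha : HasCtr p V H a w₁) (hb : HasCtr p V H b w₂)
    (hbK : b ∈ amb p H a) (hne : zpowers a ≠ zpowers b) :
    PlaneData p V H a (closure {a, b}) (zpowers w₁ ⊔ zpowers w₂) := by
  classical
  set D := closure {a, b} with hD
  set W := zpowers w₁ ⊔ zpowers w₂ with hW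
  have haK : a ∈ amb p H a := mem_sup_right (mem_zpowers a)
  have hDK : D ≤ amb p H a := (closure_le _).2 (by
    intro x hx; rcases hx with rfl | rfl
    · exact haK
    · exact hbK)
  have hDH : D ≤ H := hDK.trans (amb_le hs ha.tv)
  have haD : a ∈ D := subset_closure (Or.inl rfl)
  have hbD : b ∈ D := subset_closure (Or.inr rfl)
  have hb_w1 : b * w₁ ≠ w₁ * b := not_fix_centre hs ha.tv ha hb haK hbK hne
  have ha_w2 : a * w₂ ≠ w₂ * a := not_fix_centre hs ha.tv hb ha hbK haK (Ne.symm hne)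
  have hp1 := hs.elem.2 w₁ ha.memV
  have hp2 := hs.elem.2 w₂ hb.memV
  obtain ⟨α, hα⟩ := exists_pw_of_mem_zpowers hp1 (ha.range w₂ hb.memV)
  obtain ⟨β, hβ⟩ := exists_pw_of_mem_zpowers hp2 (hb.range w₁ ha.memV)
  have hα0 : α ≠ 0 := fun e => ha_w2 (commutatorElement_eq_one_iff_mul_comm.1 (by rw [hα, e, pw_zero]))
  have hβ0 : β ≠ 0 := fun e => hb_w1 (commutatorElement_eq_one_iff_mul_comm.1 (by rw [hβ, e, pw_zero]))
  have hWV : W ≤ V := sup_le (zpowers_le.2 ha.memV) (zpowers_le.2 hb.memV)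
  -- coordinates
  have hcoW : ∀ v : Fin 2 → ZMod p, co w₁ w₂ v ∈ W := fun v =>
    mul_mem (pw_mem (mem_sup_left (mem_zpowers _)) _) (pw_mem (mem_sup_right (mem_zpowers _)) _)
  have hco_add : ∀ u v : Fin 2 → ZMod p, co w₁ w₂ (u + v) = co w₁ w₂ u * co w₁ w₂ v := by
    intro u v
    show pw w₁ (u 0 + v 0) * pw w₂ (u 1 + v 1) = (pw w₁ (u 0) * pw w₂ (u 1)) * (pw w₁ (v 0) * pw w₂ (v 1))
    rw [pw_add hp1, pw_add hp2]
    exact Commute.mul_mul_mul_comm (comm_elem hs.elem (pw_mem ha.memV _) (pw_mem hb.memV _)) _ _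
  have hco_surj : ∀ u ∈ W, ∃ v : Fin 2 → ZMod p, u = co w₁ w₂ v := by
    intro u hu
    rw [hW, ← SetLike.mem_coe, coe_mul_of_left_le_normalizer_right _ _ (by
      refine zpowers_le.2 (centralizer_le_normalizer _ (mem_centralizer_iff.2 fun z hz => ?_))
      exact comm_elem hs.elem (zpowers_le.2 hb.memV hz) ha.memV), Set.mem_mul] at hu
    obtain ⟨x, hx, y, hy, rfl⟩ := hu
    obtain ⟨i, rfl⟩ := exists_pw_of_mem_zpowers hp1 hx
    obtain ⟨j, rfl⟩ := exists_pw_of_mem_zpowers hp2 hy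
    exact ⟨![i, j], rfl⟩
  have hconja : ∀ v : Fin 2 → ZMod p, a * co w₁ w₂ v * a⁻¹ = co w₁ w₂ ![v 0 + α * v 1, v 1] := by
    intro v
    have h1 : a * pw w₁ (v 0) * a⁻¹ = pw w₁ (v 0) := by
      rw [pw, ((show Commute a w₁ from ha.comm).pow_right _).eq, mul_inv_cancel_right]
    have h2 : a * pw w₂ (v 1) * a⁻¹ = pw w₁ (α * v 1) * pw w₂ (v 1) := by
      rw [pw, ← conj_pow, show a * w₂ * a⁻¹ = ⁅a, w₂⁆ * w₂ by rw [commutatorElement_def]; group, hα,
        (show Commute (pw w₁ α) w₂ from comm_elem hs.elem (pw_mem ha.memV _) hb.memV).mul_pow, ← pw_mul hp1]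
      rfl
    show a * (pw w₁ (v 0) * pw w₂ (v 1)) * a⁻¹ = pw w₁ (v 0 + α * v 1) * pw w₂ (v 1)
    rw [pw_add hp1, mul_assoc (pw w₁ (v 0)), ← h2]
    conv_lhs => rw [show a * (pw w₁ (v 0) * pw w₂ (v 1)) * a⁻¹ =
      (a * pw w₁ (v 0) * a⁻¹) * (a * pw w₂ (v 1) * a⁻¹) by group, h1]
  have hconjb : ∀ v : Fin 2 → ZMod p, b * co w₁ w₂ v * b⁻¹ = co w₁ w₂ ![v 0, v 1 + β * v 0] := by
    intro v
    have h1 : b * pw w₂ (v 1) * b⁻¹ = pw w₂ (v 1) := by
      rw [pw, ((show Commute b w₂ from hb.comm).pow_right _).eq, mul_inv_cancel_right]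
    have h2 : b * pw w₁ (v 0) * b⁻¹ = pw w₂ (β * v 0) * pw w₁ (v 0) := by
      rw [pw, ← conj_pow, show b * w₁ * b⁻¹ = ⁅b, w₁⁆ * w₁ by rw [commutatorElement_def]; group, hβ,
        (show Commute (pw w₂ β) w₁ from comm_elem hs.elem (pw_mem hb.memV _) ha.memV).mul_pow, ← pw_mul hp2]
      rfl
    have hc := comm_elem hs.elem (pw_mem (K := V) hb.memV (β * v 0)) (pw_mem ha.memV (v 0))
    show b * (pw w₁ (v 0) * pw w₂ (v 1)) * b⁻¹ = pw w₁ (v 0) * pw w₂ (v 1 + β * v 0)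
    rw [show b * (pw w₁ (v 0) * pw w₂ (v 1)) * b⁻¹ =
      (b * pw w₁ (v 0) * b⁻¹) * (b * pw w₂ (v 1) * b⁻¹) by group, h1, h2, hc, mul_assoc, ← pw_add hp2,
      add_comm]
  -- common fixed points
  set C := fx V (zpowers a) ⊓ fx V (zpowers b) with hC
  have hfixz : ∀ {z v : G}, z * v = v * z → ∀ x ∈ zpowers z, x * v = v * x := by
    intro z v h x hx
    obtain ⟨i, rfl⟩ := mem_zpowers_iff.1 hx
    exact ((show Commute z v from h).zpow_left i).eq
  have hmemC : ∀ v, v ∈ C ↔ v ∈ V ∧ a * v = v * a ∧ b * v = v * b := fun v => by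
    rw [hC, mem_inf, mem_fx, mem_fx]
    exact ⟨fun h => ⟨h.1.1, h.1.2 a (mem_zpowers a), h.2.2 b (mem_zpowers b)⟩,
      fun h => ⟨⟨h.1, hfixz h.2.1⟩, h.1, hfixz h.2.2⟩⟩
  have hCD : fx V D = C := by
    ext v
    rw [hmemC, mem_fx]
    refine ⟨fun h => ⟨h.1, h.2 a haD, h.2 b hbD⟩, fun h => ⟨h.1, fun d hd => ?_⟩⟩
    have h' : D ≤ centralizer ({v} : Set G) := (closure_le _).2 (by
      intro x hx; rcases hx with rfl | rfl
      · exact mem_centralizer_singleton_iff.2 h.2.1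
      · exact mem_centralizer_singleton_iff.2 h.2.2)
    exact mem_centralizer_singleton_iff.1 (h' hd)
  have hcan : ∀ v : Fin 2 → ZMod p, co w₁ w₂ v ∈ C → v = 0 := by
    intro v hv
    obtain ⟨-, h1, h2⟩ := (hmemC _).1 hv
    have h1' := hconja v
    rw [h1, mul_inv_cancel_right] at h1'
    have h2' := hconjb v
    rw [h2, mul_inv_cancel_right] at h2'
    change pw w₁ (v 0) * pw w₂ (v 1) = pw w₁ (v 0 + α * v 1) * pw w₂ (v 1) at h1'
    change pw w₁ (v 0) * pw w₂ (v 1) = pw w₁ (v 0) * pw w₂ (v 1 + β * v 0) at h2'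
    have e1 : pw w₁ (α * v 1) = 1 := by
      have := mul_right_cancel h1'; rwa [pw_add hp1, eq_comm, mul_eq_left] at this
    have e2 : pw w₂ (β * v 0) = 1 := by
      have := mul_left_cancel h2'; rwa [pw_add hp2, eq_comm, mul_eq_left] at this
    have z1 : v 1 = 0 := by_contra fun h => pw_ne_one hp1 ha.ne (mul_ne_zero hα0 h) e1
    have z0 : v 0 = 0 := by_contra fun h => pw_ne_one hp2 hb.ne (mul_ne_zero hβ0 h) e2
    funext i; fin_cases i
    · exact z0
    · exact z1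
  have hco0 : co w₁ w₂ (0 : Fin 2 → ZMod p) = 1 := by
    show pw w₁ (0 : ZMod p) * pw w₂ (0 : ZMod p) = 1; rw [pw_zero, pw_zero, one_mul]
  have hco_inj : Function.Injective (co (p := p) w₁ w₂) := by
    intro u v h
    refine sub_eq_zero.1 (hcan _ ?_)
    have : co w₁ w₂ (u - v) * co w₁ w₂ v = co w₁ w₂ v := by rw [← hco_add, sub_add_cancel, h]
    rw [mul_eq_right] at this
    rw [this]; exact one_mem _
  have hWC : W ⊓ C = ⊥ := (eq_bot_iff).2 fun u hu => by
    obtain ⟨v, rfl⟩ := hco_surj u hu.1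
    rw [hcan v hu.2, hco0]; exact one_mem _
  have hcardW : Nat.card W = p ^ 2 := by
    rw [← Nat.card_congr (Equiv.ofBijective (fun v => (⟨co w₁ w₂ v, hcoW v⟩ : W))
      ⟨fun u v h => hco_inj (congrArg Subtype.val h), fun u => by
        obtain ⟨v, hv⟩ := hco_surj u u.2; exact ⟨v, Subtype.ext hv.symm⟩⟩), Nat.card_fun, Nat.card_fin,
      Nat.card_zmod]
  have hCV : C ≤ V := inf_le_left.trans inf_le_left
  have hsupV : W ⊔ C = V := by
    refine eq_of_le_of_card_ge (sup_le hWV hCV) ?_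
    have hn : C ≤ normalizer (W : Set G) := fun c hc => centralizer_le_normalizer _
      (mem_centralizer_iff.2 fun z hz => comm_elem hs.elem (hWV hz) (hCV hc))
    rw [Cfsg.Lib.Coprime.card_sup_of_inf_eq_bot hn hWC, hcardW]
    have h1 := Cfsg.Lib.ElemToolkit.mul_card_le (fx V (zpowers a)) (fx V (zpowers b))
    have h2 : Nat.card ↥(fx V (zpowers a) ⊔ fx V (zpowers b)) ≤ Nat.card V :=
      Nat.card_le_card_of_injective _ (inclusion_injective (sup_le inf_le_left inf_le_left))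
    have h3 : Nat.card V * Nat.card V ≤ Nat.card V * (p ^ 2 * Nat.card C) := by
      calc Nat.card V * Nat.card V = p ^ 2 * (Nat.card (fx V (zpowers a)) * Nat.card (fx V (zpowers b))) := by
            conv_lhs => arg 1; rw [← ha.tv.index]
            conv_lhs => arg 2; rw [← hb.tv.index]
            ring
        _ ≤ p ^ 2 * (Nat.card V * Nat.card C) := Nat.mul_le_mul_left _ (h1.trans (Nat.mul_le_mul_right _ h2))
        _ = _ := by ring
    exact Nat.le_of_mul_le_mul_left h3 Nat.card_pos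
  -- the matrices
  have hmat : ∀ d ∈ D, ∃ M : Matrix.SpecialLinearGroup (Fin 2) (ZMod p),
      ∀ v, d * co w₁ w₂ v * d⁻¹ = co w₁ w₂ (M.1 *ᵥ v) := by
    intro d hd
    induction hd using Subgroup.closure_induction with
    | mem x hx =>
      rcases hx with rfl | rfl
      · refine ⟨⟨!![1, α; 0, 1], by simp [Matrix.det_fin_two]⟩, fun v => (hconja v).trans (congrArg _ ?_)⟩
        funext i; fin_cases i <;> simp [Matrix.mulVec, dotProduct, Fin.sum_univ_two]
      · refine ⟨⟨!![1, 0; β, 1], by simp [Matrix.det_fin_two]⟩, fun v => (hconjb v).trans (congrArg _ ?_)⟩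
        funext i; fin_cases i <;> simp [Matrix.mulVec, dotProduct, Fin.sum_univ_two, add_comm]
    | one => exact ⟨1, fun v => by simp⟩
    | mul x y _ _ hx hy =>
      obtain ⟨M, hM⟩ := hx
      obtain ⟨N, hN⟩ := hy
      refine ⟨M * N, fun v => ?_⟩
      rw [show x * y * co w₁ w₂ v * (x * y)⁻¹ = x * (y * co w₁ w₂ v * y⁻¹) * x⁻¹ by group, hN, hM,
        Matrix.mulVec_mulVec, Matrix.SpecialLinearGroup.coe_mul]
    | inv x _ hx =>
      obtain ⟨M, hM⟩ := hx
      refine ⟨M⁻¹, fun v => ?_⟩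
      have h := hM ((M⁻¹ : Matrix.SpecialLinearGroup (Fin 2) (ZMod p)).1 *ᵥ v)
      rw [Matrix.mulVec_mulVec, ← Matrix.SpecialLinearGroup.coe_mul, mul_inv_cancel,
        Matrix.SpecialLinearGroup.coe_one, Matrix.one_mulVec] at h
      rw [← h]; group
  choose M hM using hmat
  have hMuniq : ∀ d (hd : d ∈ D) (N : Matrix.SpecialLinearGroup (Fin 2) (ZMod p)),
      (∀ v, d * co w₁ w₂ v * d⁻¹ = co w₁ w₂ (N.1 *ᵥ v)) → M d hd = N := by
    intro d hd N hN
    refine Subtype.ext (Matrix.ext fun i j => ?_)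
    have h := congrFun (hco_inj ((hM d hd (Pi.single j 1)).symm.trans (hN _))) i
    simpa [Matrix.mulVec_single] using h
  let θ : D →* Matrix.SpecialLinearGroup (Fin 2) (ZMod p) := MonoidHom.mk' (fun d => M d d.2) fun x y =>
    hMuniq _ _ _ fun v => by
      rw [Subgroup.coe_mul, show (x : G) * y * co w₁ w₂ v * ((x : G) * y)⁻¹ =
        x * (y * co w₁ w₂ v * (y : G)⁻¹) * (x : G)⁻¹ by group, hM _ y.2, hM _ x.2, Matrix.mulVec_mulVec,
        Matrix.SpecialLinearGroup.coe_mul]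
  have hker : ∀ d : D, (∀ u ∈ W, (d : G) * u = u * d) → d = 1 := by
    intro d hd
    refine Subtype.ext (hs.faith _ (hDH d.2) fun v hv => ?_)
    have hle : W ⊔ C ≤ centralizer ({(d : G)} : Set G) := sup_le
      (fun u hu => mem_centralizer_singleton_iff.2 (hd u hu).symm)
      (fun u hu => mem_centralizer_singleton_iff.2 (((mem_fx.1 (hCD.ge hu)).2 d d.2)).symm)
    exact (mem_centralizer_singleton_iff.1 (hle (hsupV.ge hv))).symm
  have hθinj : Function.Injective θ := (injective_iff_map_eq_one θ).2 fun d hd => hker d fun u hu => by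
    obtain ⟨v, rfl⟩ := hco_surj u hu
    have h := hM _ d.2 v
    rw [show M (d : G) d.2 = 1 from hd, Matrix.SpecialLinearGroup.coe_one, Matrix.one_mulVec,
      mul_inv_eq_iff_eq_mul] at h
    exact h
  have hθsurj : Function.Surjective θ := by
    rw [← MonoidHom.range_eq_top]
    have ga : ∀ k : ℕ, (θ (⟨a, haD⟩ ^ k)).1 = !![1, (k : ZMod p) * α; 0, 1] := by
      intro k
      have hA : θ ⟨a, haD⟩ = ⟨!![1, α; 0, 1], by simp [Matrix.det_fin_two]⟩ :=
        hMuniq _ _ _ fun v => (hconja v).trans (congrArg _ (by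
          funext i; fin_cases i <;> simp [Matrix.mulVec, dotProduct, Fin.sum_univ_two]))
      induction k with
      | zero => simp [Matrix.one_fin_two]
      | succ k ih =>
        rw [pow_succ, map_mul, Matrix.SpecialLinearGroup.coe_mul, ih, hA]
        simp [Matrix.mul_fin_two]
        ring
    have gb : ∀ k : ℕ, (θ (⟨b, hbD⟩ ^ k)).1 = !![1, 0; (k : ZMod p) * β, 1] := by
      intro k
      have hB : θ ⟨b, hbD⟩ = ⟨!![1, 0; β, 1], by simp [Matrix.det_fin_two]⟩ :=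
        hMuniq _ _ _ fun v => (hconjb v).trans (congrArg _ (by
          funext i; fin_cases i <;> simp [Matrix.mulVec, dotProduct, Fin.sum_univ_two, add_comm]))
      induction k with
      | zero => simp [Matrix.one_fin_two]
      | succ k ih =>
        rw [pow_succ, map_mul, Matrix.SpecialLinearGroup.coe_mul, ih, hB]
        simp [Matrix.mul_fin_two]
        ring
    refine Cfsg.Lib.SLTwoSub.closure_transvections _ (fun g hg => ?_) (fun g hg => ?_)
    · exact ⟨⟨a, haD⟩ ^ (α⁻¹).val, Subtype.ext (by rw [ga, ZMod.natCast_zmod_val, inv_mul_cancel₀ hα0, hg])⟩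
    · exact ⟨⟨b, hbD⟩ ^ (β⁻¹).val, Subtype.ext (by rw [gb, ZMod.natCast_zmod_val, inv_mul_cancel₀ hβ0, hg])⟩
  set θe := MulEquiv.ofBijective θ ⟨hθinj, hθsurj⟩
  have hnorm : ∀ d ∈ D, ∀ u ∈ W, d * u * d⁻¹ ∈ W := fun d hd u hu => by
    obtain ⟨v, rfl⟩ := hco_surj u hu
    rw [hM d hd]; exact hcoW _
  have hsmall : p = 2 ∨ p = 3 := by
    by_contra hno
    push Not at hno
    have h5 : 4 ≤ Nat.card (ZMod p) := by
      have := hp.out.two_le
      rw [Nat.card_zmod]; omega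
    have hperf : commutator (Matrix.SpecialLinearGroup (Fin 2) (ZMod p)) = ⊤ :=
      Cfsg.Lib.Known.sl2_commutator_eq_top (ZMod p) (by rw [ZMod.card]; simpa using h5)
    have htop : commutator D = ⊤ := by
      have h := congrArg (Subgroup.map θe.symm.toMonoidHom) hperf
      rw [Subgroup.map_top_of_surjective _ θe.symm.surjective, commutator_def, map_commutator,
        Subgroup.map_top_of_surjective _ θe.symm.surjective, ← commutator_def] at h
      exact h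
    have hle : (commutator D).map D.subtype ≤ core p H := by
      rw [commutator_def, map_commutator]
      refine commutator_le.2 ?_
      rintro _ ⟨x, -, rfl⟩ _ ⟨y, -, rfl⟩
      exact amb_comm ha.tv (hDK x.2) (hDK y.2)
    refine ha.tv.ne (eq_one_of_core (isPGroup_elem (elem_of_best hs (zpowers_le.2 ha.tv.mem)
      (best_of_isTv hs ha.tv))) (mem_zpowers a) (hle ⟨⟨a, haD⟩, htop ▸ mem_top _, rfl⟩))
  have hlines : ∀ u ∈ W, u ≠ 1 → ∃ c ∈ D, HasCtr p V H c u := by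
    intro u hu hu1
    obtain ⟨v, rfl⟩ := hco_surj u hu
    have hv : v 0 ≠ 0 ∨ v 1 ≠ 0 := by
      by_contra hno; push Not at hno
      exact hu1 (by show pw w₁ (v 0) * pw w₂ (v 1) = 1; rw [hno.1, hno.2, pw_zero, pw_zero, one_mul])
    obtain ⟨N, h0, h1⟩ := Cfsg.Lib.QuadPair.exists_first_column hv
    obtain ⟨d, hd⟩ := hθsurj N
    have hconj : (d : G) * w₁ * (d : G)⁻¹ = co w₁ w₂ v := by
      have h := hM _ d.2 ![1, 0]
      rw [show co w₁ w₂ ![(1 : ZMod p), 0] = w₁ by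
        show pw w₁ (1 : ZMod p) * pw w₂ (0 : ZMod p) = w₁; rw [pw_one, pw_zero, mul_one],
        show M (d : G) d.2 = N from hd] at h
      rw [h]
      congr 1
      funext i; fin_cases i <;> simp [Matrix.mulVec, dotProduct, Fin.sum_univ_two, h0, h1]
    exact ⟨(d : G) * a * (d : G)⁻¹, mul_mem (mul_mem d.2 haD) (inv_mem d.2), hconj ▸ ha.conj hs (hDH d.2)⟩
  refine ⟨hsmall, ⟨θe⟩, hcardW, ?_, hWV, by rw [hCD]; exact hWC, by rw [hCD]; exact hsupV, ?_, hnorm, hDK,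
    haD, ?_, hlines⟩
  · refine le_antisymm (commutator_le.2 fun v hv d hd => ?_) (sup_le (zpowers_le.2 ?_) (zpowers_le.2 ?_))
    · have hv' := hsupV.ge hv
      rw [← SetLike.mem_coe, coe_mul_of_left_le_normalizer_right _ _ (fun u hu => centralizer_le_normalizer _
        (mem_centralizer_iff.2 fun z hz => comm_elem hs.elem (hCV hz) (hWV hu))), Set.mem_mul] at hv'
      obtain ⟨u, hu, c, hc, rfl⟩ := hv'
      have hdc : Commute d c := (mem_fx.1 (hCD.ge hc)).2 d hd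
      rw [← commutatorElement_inv]
      refine inv_mem ?_
      rw [show ⁅d, u * c⁆ = d * u * d⁻¹ * u⁻¹ by
        calc ⁅d, u * c⁆ = d * u * (c * d⁻¹) * c⁻¹ * u⁻¹ := by rw [commutatorElement_def]; group
          _ = _ := by rw [← hdc.inv_left.eq]; group]
      exact mul_mem (hnorm d hd u hu) (inv_mem hu)
    · obtain ⟨v, hv, e⟩ := ha.surj
      rw [← e, ← commutatorElement_inv]
      exact inv_mem (commutator_mem_commutator hv haD)
    · obtain ⟨v, hv, e⟩ := hb.surj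
      rw [← e, ← commutatorElement_inv]
      exact inv_mem (commutator_mem_commutator hv hbD)
  · refine eq_bot_iff.2 fun d hd => ?_
    have := hker ⟨d, hd.1⟩ fun u hu => (mem_centralizer_iff.1 hd.2 u hu).symm
    exact mem_bot.2 (congrArg Subtype.val this)
  · intro c hc hct
    obtain ⟨wc, hwc⟩ := exists_hasCtr hs hct
    have hcw := hs.elem.2 wc hwc.memV
    obtain ⟨i, hi⟩ := exists_pw_of_mem_zpowers hcw (hwc.range w₁ ha.memV)
    obtain ⟨u, hu, hu1, hfix⟩ : ∃ u ∈ W, u ≠ 1 ∧ c * u = u * c := by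
      by_cases hi0 : i = 0
      · exact ⟨w₁, mem_sup_left (mem_zpowers _), ha.ne,
          commutatorElement_eq_one_iff_mul_comm.1 (by rw [hi, hi0, pw_zero])⟩
      obtain ⟨j, hj⟩ := exists_pw_of_mem_zpowers hcw (hwc.range w₂ hb.memV)
      refine ⟨co w₁ w₂ ![-j, i], hcoW _, fun e => hi0 ?_, ?_⟩
      · exact congrFun (hco_inj (e.trans hco0.symm)) 1
      · have hc1 : ∀ x ∈ V, c * x * c⁻¹ = ⁅c, x⁆ * x := fun x _ => by rw [commutatorElement_def]; group
        refine mul_inv_eq_iff_eq_mul.1 ?_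
        show c * (pw w₁ (-j) * pw w₂ i) * c⁻¹ = pw w₁ (-j) * pw w₂ i
        rw [show c * (pw w₁ (-j) * pw w₂ i) * c⁻¹ = (c * pw w₁ (-j) * c⁻¹) * (c * pw w₂ i * c⁻¹) by group]
        have e1 : c * pw w₁ (-j) * c⁻¹ = pw wc (i * -j) * pw w₁ (-j) := by
          rw [pw, ← conj_pow, hc1 w₁ ha.memV, hi,
            (show Commute (pw wc i) w₁ from comm_elem hs.elem (pw_mem hwc.memV _) ha.memV).mul_pow, ← pw_mul hcw]
          rfl
        have e2 : c * pw w₂ i * c⁻¹ = pw wc (j * i) * pw w₂ i := by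
          rw [pw, ← conj_pow, hc1 w₂ hb.memV, hj,
            (show Commute (pw wc j) w₂ from comm_elem hs.elem (pw_mem hwc.memV _) hb.memV).mul_pow, ← pw_mul hcw]
          rfl
        rw [e1, e2, Commute.mul_mul_mul_comm (comm_elem hs.elem (pw_mem ha.memV _) (pw_mem hwc.memV _)),
          ← pw_add hcw, show i * -j + j * i = 0 by ring, pw_zero, one_mul]
    obtain ⟨a', ha'D, ha'⟩ := hlines u hu hu1
    by_contra hcD
    exact not_fix_centre hs ha.tv ha' hwc (hDK ha'D) hc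
      (fun e => hcD (zpowers_le.1 (e.ge.trans (zpowers_le.2 ha'D)))) hfix

end Cfsg.Lib.FF
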