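import Cfsg.Agent.FFModule.Plane

/-!
The structure of a group generated by best offenders with self-centralizing `p'`-core.
-/

set_option autoImplicit false
set_option linter.unusedSectionVars false
set_option linter.style.haveILetI false

namespace Cfsg.Lib.FF

open Subgroup
open scoped commutatorElement

variable {G : Type*} [Group G] [Finite G] {p : ℕ} [hp : Fact p.Prime] {V H : Subgroup G}

/-- The direct factor attached to a transvection. -/
def epl (p : ℕ) (H : Subgroup G) (a : G) : Subgroup G := ⁅core p H, zpowers a⁆ ⊔ zpowers a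

/-- Its commutator module. -/
def pl (p : ℕ) (V H : Subgroup G) (a : G) : Subgroup G := ⁅V, epl p H a⁆

theorem comm_core_mem {a : G} (ha : IsTv p V H a) {q x : G} (hq : q ∈ core p H) (hx : x ∈ zpowers a) :
    ⁅q, x⁆ ∈ core p H := by
  rw [commutatorElement_def, mul_assoc, mul_assoc]
  refine mul_mem hq ?_
  rw [← mul_assoc]
  exact conj_mem (le_normalizer_core H ((zpowers_le.2 ha.mem) hx)) (inv_mem hq)

theorem commutator_core_le {a : G} (ha : IsTv p V H a) : ⁅core p H, zpowers a⁆ ≤ core p H :=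
  commutator_le.2 fun _ hq _ hx => comm_core_mem ha hq hx

theorem epl_le_amb {a : G} (ha : IsTv p V H a) : epl p H a ≤ amb p H a :=
  sup_le ((commutator_core_le ha).trans le_sup_left) le_sup_right

theorem conj_a_mem {a q : G} (hq : q ∈ core p H) : q * a * q⁻¹ ∈ epl p H a := by
  rw [show q * a * q⁻¹ = ⁅q, a⁆ * a by rw [commutatorElement_def]; group]
  exact mul_mem (mem_sup_left (commutator_mem_commutator hq (mem_zpowers a))) (mem_sup_right (mem_zpowers a))

theorem epl_eq_closure (hs : Setup p V H) {a x : G} (ha : IsTv p V H a) (hx : x ∈ core p H)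
    (hxa : x * a ≠ a * x) :
    ∃ W, PlaneData p V H a (epl p H a) W ∧ closure {a, x * a * x⁻¹} = epl p H a := by
  obtain ⟨w, hw⟩ := exists_hasCtr hs ha
  have hne : zpowers a ≠ zpowers (x * a * x⁻¹) := fun e => by
    have h1 : ⁅x, a⁆ ∈ zpowers a := by
      rw [show ⁅x, a⁆ = (x * a * x⁻¹) * a⁻¹ by rw [commutatorElement_def]]
      exact mul_mem (e ▸ mem_zpowers _) (inv_mem (mem_zpowers a))
    exact hxa (commutatorElement_eq_one_iff_mul_comm.1 (eq_one_of_core
      (isPGroup_elem (elem_of_best hs (zpowers_le.2 ha.mem) (best_of_isTv hs ha))) h1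
      (comm_core_mem ha hx (mem_zpowers a))))
  have hbK : x * a * x⁻¹ ∈ amb p H a :=
    mul_mem (mul_mem (mem_sup_left hx) (mem_sup_right (mem_zpowers a))) (inv_mem (mem_sup_left hx))
  have hd := planeData hs hw (hw.conj hs (core_le H hx)) hbK hne
  have heq : closure {a, x * a * x⁻¹} = epl p H a := by
    refine le_antisymm ((closure_le _).2 ?_) (sup_le (commutator_le.2 fun q hq y hy => ?_) (zpowers_le.2 hd.mem))
    · intro y hy
      rcases hy with rfl | rfl
      · exact mem_sup_right (mem_zpowers _)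
      · exact conj_a_mem hx
    · obtain ⟨k, rfl⟩ := (mem_powers_iff_mem_zpowers (x := a)).2 hy
      rw [show ⁅q, a ^ k⁆ = (q * a * q⁻¹) ^ k * (a ^ k)⁻¹ by rw [conj_pow, commutatorElement_def]]
      exact mul_mem (pow_mem (hd.absorb _ (mul_mem (mul_mem (mem_sup_left hq) (mem_sup_right (mem_zpowers a)))
        (inv_mem (mem_sup_left hq))) (hw.conj hs (core_le H hq)).tv) k) (inv_mem (pow_mem hd.mem k))
  exact ⟨_, heq ▸ hd, heq⟩

theorem exists_mover (hs : Setup p V H) {a : G} (ha : IsTv p V H a) : ∃ x ∈ core p H, x * a ≠ a * x := by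
  by_contra hno
  push Not at hno
  exact ha.ne (eq_one_of_core (isPGroup_elem (elem_of_best hs (zpowers_le.2 ha.mem) (best_of_isTv hs ha)))
    (mem_zpowers a) (hs.self a ha.mem hno))

theorem epl_data (hs : Setup p V H) {a : G} (ha : IsTv p V H a) :
    PlaneData p V H a (epl p H a) (pl p V H a) := by
  obtain ⟨x, hx, hxa⟩ := exists_mover hs ha
  obtain ⟨W, hW, -⟩ := epl_eq_closure hs ha hx hxa
  rw [pl, hW.W_eq]
  exact hW

theorem epl_le (hs : Setup p V H) {a : G} (ha : IsTv p V H a) : epl p H a ≤ H :=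
  (epl_le_amb ha).trans (amb_le hs ha)

theorem epl_le_closure_tv (hs : Setup p V H) {a : G} (ha : IsTv p V H a) :
    epl p H a ≤ closure {c | c ∈ epl p H a ∧ IsTv p V H c} := by
  obtain ⟨x, hx, hxa⟩ := exists_mover hs ha
  obtain ⟨W, hW, he⟩ := epl_eq_closure hs ha hx hxa
  obtain ⟨w, hw⟩ := exists_hasCtr hs ha
  conv_lhs => rw [← he]
  refine Subgroup.closure_mono ?_
  intro y hy
  rcases hy with rfl | rfl
  · exact ⟨hW.mem, ha⟩
  · exact ⟨conj_a_mem hx, (hw.conj hs (core_le H hx)).tv⟩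

theorem core_normalizes_epl {a : G} (ha : IsTv p V H a) :
    core p H ≤ normalizer (epl p H a : Set G) := by
  intro q hq
  refine mem_normalizer_iff.2 fun x => ⟨fun hx => ?_, fun hx => ?_⟩
  all_goals
    have key : ∀ r ∈ core p H, (epl p H a).map (MulAut.conj r).toMonoidHom ≤ epl p H a := by
      intro r hr
      rw [epl, Subgroup.map_sup, Subgroup.map_commutator, MonoidHom.map_zpowers]
      refine sup_le (commutator_le.2 ?_) (zpowers_le.2 (conj_a_mem hr))
      rintro _ ⟨s, hs', rfl⟩ y hy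
      obtain ⟨k, rfl⟩ := (mem_powers_iff_mem_zpowers).2 hy
      show ⁅r * s * r⁻¹, (r * a * r⁻¹) ^ k⁆ ∈ _
      rw [conj_pow, show ⁅r * s * r⁻¹, r * a ^ k * r⁻¹⁆ = ⁅r * s, a ^ k⁆ * ⁅r, a ^ k⁆⁻¹ by
        simp only [commutatorElement_def]; group]
      exact mul_mem (mem_sup_left (commutator_mem_commutator (mul_mem hr hs') (pow_mem (mem_zpowers a) k)))
        (inv_mem (mem_sup_left (commutator_mem_commutator hr (pow_mem (mem_zpowers a) k))))
  · exact key q hq ⟨x, hx, rfl⟩
  · have := key q⁻¹ (inv_mem hq) ⟨_, hx, rfl⟩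
    simpa [mul_assoc] using this

theorem conj_mem_pl (hs : Setup p V H) {a q u : G} (ha : IsTv p V H a) (hq : q ∈ core p H)
    (hu : u ∈ pl p V H a) : q * u * q⁻¹ ∈ pl p V H a := by
  have hle : (pl p V H a).map (MulAut.conj q).toMonoidHom ≤ pl p V H a := by
    rw [pl, map_commutator]
    refine commutator_mono ?_ ?_
    · rintro _ ⟨v, hv, rfl⟩; exact conj_mem (hs.norm (core_le H hq)) hv
    · rintro _ ⟨d, hd, rfl⟩; exact conj_mem (core_normalizes_epl ha hq) hd
  exact hle ⟨u, hu, rfl⟩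

theorem conj_mem_fx (hs : Setup p V H) {a q u : G} (ha : IsTv p V H a) (hq : q ∈ core p H)
    (hu : u ∈ fx V (epl p H a)) : q * u * q⁻¹ ∈ fx V (epl p H a) := by
  refine mem_fx.2 ⟨conj_mem (hs.norm (core_le H hq)) (mem_fx.1 hu).1, fun d hd => ?_⟩
  have h := (mem_fx.1 hu).2 _ (show q⁻¹ * d * q ∈ epl p H a by
    simpa using conj_mem (inv_mem (core_normalizes_epl ha hq)) hd)
  calc d * (q * u * q⁻¹) = q * ((q⁻¹ * d * q) * u) * q⁻¹ := by group
    _ = _ := by rw [h]; group

theorem commute_of_normalize_line (hs : Setup p V H) {c u : G} (hc : IsTv p V H c) (huV : u ∈ V)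
    (hu : ⁅c, u⁆ ∈ zpowers u) : c * u = u * c := by
  obtain ⟨w, hw⟩ := exists_hasCtr hs hc
  refine commutatorElement_eq_one_iff_mul_comm.1 ?_
  by_contra hne
  have h1 : ⁅c, u⁆ ∈ zpowers w := hw.range u huV
  have hu1 : u ≠ 1 := fun e => hne (by rw [e, commutatorElement_one_right])
  rcases eq_bot_or_eq_of_le_zpowers (p := p) (hs.elem.2 w hw.memV) (zpowers_le.2 h1) with h | h
  · exact hne (zpowers_eq_bot.1 h)
  · rcases eq_bot_or_eq_of_le_zpowers (p := p) (hs.elem.2 u huV) (zpowers_le.2 hu) with h' | h'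
    · exact hne (zpowers_eq_bot.1 h')
    · have huw : u ∈ zpowers w := by rw [← h, h']; exact mem_zpowers u
      obtain ⟨i, hi⟩ := mem_zpowers_iff.1 huw
      exact hne (commutatorElement_eq_one_iff_mul_comm.2 (hi ▸ ((show Commute c w from hw.comm).zpow_right i).eq))

/-- The `p'`-part of the factor. -/
def rad (p : ℕ) (H : Subgroup G) (a : G) : Subgroup G := epl p H a ⊓ core p H

theorem epl_le_rad_sup (hs : Setup p V H) {a c : G} (ha : IsTv p V H a) (hc : c ∈ epl p H a)
    (hct : IsTv p V H c) : epl p H a ≤ rad p H a ⊔ zpowers c := by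
  have hn : zpowers a ≤ normalizer (core p H : Set G) := (zpowers_le.2 ha.mem).trans (le_normalizer_core H)
  have hform : ∀ d ∈ epl p H a, ∃ r ∈ rad p H a, ∃ k : ℕ, d = r * a ^ k := by
    intro d hd
    obtain ⟨r, hr, y, hy, rfl⟩ : ∃ r ∈ core p H, ∃ y ∈ zpowers a, r * y = d := by
      have := epl_le_amb ha hd
      rw [amb, ← SetLike.mem_coe, coe_mul_of_right_le_normalizer_left _ _ hn, Set.mem_mul] at this
      exact this
    obtain ⟨k, rfl⟩ := (mem_powers_iff_mem_zpowers).2 hy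
    refine ⟨r, ⟨?_, hr⟩, k, rfl⟩
    have := mul_mem hd (inv_mem (pow_mem (mem_sup_right (mem_zpowers a) : a ∈ epl p H a) k))
    rwa [mul_inv_cancel_right] at this
  obtain ⟨r, hr, k, hk⟩ := hform c hc
  have hak : a ^ k ∈ rad p H a ⊔ zpowers c := by
    rw [show a ^ k = r⁻¹ * c by rw [hk]; group]
    exact mul_mem (inv_mem (mem_sup_left hr)) (mem_sup_right (mem_zpowers c))
  have hak1 : a ^ k ≠ 1 := fun e => hct.ne (eq_one_of_core
    (isPGroup_elem (elem_of_best hs (zpowers_le.2 hct.mem) (best_of_isTv hs hct))) (mem_zpowers c)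
    (by rw [hk, e, mul_one]; exact hr.2))
  have haz : a ∈ zpowers (a ^ k) :=
    ((eq_bot_or_eq_of_le_zpowers ha.pow (zpowers_le.2 (pow_mem (mem_zpowers a) k))).resolve_left
      (fun e => hak1 (zpowers_eq_bot.1 e))).ge (mem_zpowers a)
  have ha' : a ∈ rad p H a ⊔ zpowers c := zpowers_le.2 hak haz
  intro d hd
  obtain ⟨s, hs', i, rfl⟩ := hform d hd
  exact mul_mem (mem_sup_left hs') (pow_mem ha' i)

theorem not_normalize_line (hs : Setup p V H) {a u : G} (ha : IsTv p V H a) (hu : u ∈ pl p V H a)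
    (hR : ∀ r ∈ rad p H a, ⁅r, u⁆ ∈ zpowers u) : u = 1 := by
  have hd := epl_data hs ha
  by_contra hu1
  have huV := hd.W_le hu
  obtain ⟨c, hc, hcu⟩ := hd.lines u hu hu1
  let L : Subgroup G := normalizer (zpowers u : Set G)
  have hL : epl p H a ≤ L := by
    refine (epl_le_rad_sup hs ha hc hcu.tv).trans (sup_le (fun r hr => ?_) (zpowers_le.2 ?_))
    · refine mem_normalizer_of_finite_of_conj (fun x hx => ?_)
      obtain ⟨i, rfl⟩ := mem_zpowers_iff.1 hx
      rw [← conj_zpow, show r * u * r⁻¹ = ⁅r, u⁆ * u by rw [commutatorElement_def]; group]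
      exact zpow_mem (mul_mem (hR r hr) (mem_zpowers u)) i
    · refine centralizer_le_normalizer _ (mem_centralizer_iff.2 fun x hx => ?_)
      obtain ⟨i, rfl⟩ := mem_zpowers_iff.1 hx
      exact ((show Commute c u from hcu.comm).zpow_right i).eq.symm
  have hfix : epl p H a ≤ centralizer ({u} : Set G) := by
    refine (epl_le_closure_tv hs ha).trans ((closure_le _).2 ?_)
    intro e he
    refine mem_centralizer_singleton_iff.2 (commute_of_normalize_line hs he.2 huV ?_)
    exact mul_mem ((mem_normalizer_iff.1 (hL he.1) u).1 (mem_zpowers u)) (inv_mem (mem_zpowers u))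
  have hbad : u ∈ pl p V H a ⊓ fx V (epl p H a) :=
    ⟨hu, mem_fx.2 ⟨huV, fun d hd => mem_centralizer_singleton_iff.1 (hfix hd)⟩⟩
  rw [hd.inf_fx, mem_bot] at hbad
  exact hu1 hbad
where
  mem_normalizer_of_finite_of_conj {r : G} {L : Subgroup G} (h : ∀ x ∈ L, r * x * r⁻¹ ∈ L) :
      r ∈ normalizer (L : Set G) := by
    have hle : L.map (MulAut.conj r).toMonoidHom ≤ L := by rintro _ ⟨x, hx, rfl⟩; exact h x hx
    have heq := eq_of_le_of_card_ge hle (by rw [card_map_of_injective (MulAut.conj r).injective])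
    refine mem_normalizer_iff.2 fun x => ⟨h x, fun hx => ?_⟩
    obtain ⟨y, hy, e⟩ := heq.ge hx
    rwa [show y = x from (MulAut.conj r).injective e] at hy

theorem split_mem (hs : Setup p V H) {a v : G} (ha : IsTv p V H a) (hv : v ∈ V) :
    ∃ u ∈ pl p V H a, ∃ c ∈ fx V (epl p H a), v = u * c := by
  have hd := epl_data hs ha
  have h := hd.sup_fx.ge hv
  rw [← SetLike.mem_coe, coe_mul_of_left_le_normalizer_right _ _ (fun u hu => centralizer_le_normalizer _
    (mem_centralizer_iff.2 fun z hz => comm_elem hs.elem (mem_fx.1 hz).1 (hd.W_le hu))), Set.mem_mul] at h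
  obtain ⟨u, hu, c, hc, e⟩ := h
  exact ⟨u, hu, c, hc, e.symm⟩

theorem mem_fx_of_rad (hs : Setup p V H) {a v : G} (ha : IsTv p V H a) (hv : v ∈ V)
    (h : ∀ r ∈ rad p H a, r * v = v * r) : v ∈ fx V (epl p H a) := by
  obtain ⟨u, hu, c, hc, rfl⟩ := split_mem hs ha hv
  have : u = 1 := not_normalize_line hs ha hu fun r hr => by
    have h1 : Commute r c := (mem_fx.1 hc).2 r hr.1
    have h2 : Commute r (u * c) := h r hr
    have h3 : Commute r u := by simpa using h2.mul_right h1.inv_right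
    rw [commutatorElement_eq_one_iff_mul_comm.2 h3.eq]
    exact one_mem _
  rw [this, one_mul]; exact hc

theorem tv_dichotomy (hs : Setup p V H) {a b : G} (ha : IsTv p V H a) (hb : IsTv p V H b) :
    b ∈ epl p H a ∨ ((∀ d ∈ epl p H a, d * b = b * d) ∧ pl p V H a ≤ fx V (zpowers b) ∧
      ∀ v ∈ V, ⁅b, v⁆ ∈ fx V (epl p H a)) := by
  have hda := epl_data hs ha
  have hdb := epl_data hs hb
  obtain ⟨wb, hwb⟩ := exists_hasCtr hs hb
  have hwbW : wb ∈ pl p V H b := by
    obtain ⟨v, hv, e⟩ := hwb.surj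
    rw [← e, ← commutatorElement_inv]
    exact inv_mem (commutator_mem_commutator hv hdb.mem)
  have hint : pl p V H a ⊓ pl p V H b = ⊥ ∨ pl p V H a = pl p V H b := by
    have hdvd : Nat.card ↥(pl p V H a ⊓ pl p V H b) ∣ p ^ 2 := hda.card_W ▸ card_dvd_of_le inf_le_left
    obtain ⟨i, hi, hc⟩ := (Nat.dvd_prime_pow hp.out).1 hdvd
    interval_cases i
    · exact Or.inl (card_eq_one.1 (by rw [hc, pow_zero]))
    · exfalso
      obtain ⟨u, hu, hu1⟩ := (bot_or_exists_ne_one (pl p V H a ⊓ pl p V H b)).resolve_left (fun e => by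
        rw [e, card_bot, pow_one] at hc; exact hp.out.ne_one hc.symm)
      have heq : pl p V H a ⊓ pl p V H b = zpowers u := (eq_of_le_of_card_ge (zpowers_le.2 hu) (by
        rw [hc, pow_one, Nat.card_zpowers, orderOf_eq_prime (hs.elem.2 u (hda.W_le hu.1)) hu1])).symm
      refine hu1 (not_normalize_line hs ha hu.1 fun r hr => ?_)
      rw [← heq]
      exact mul_mem ⟨conj_mem_pl hs ha hr.2 hu.1, conj_mem_pl hs hb hr.2 hu.2⟩ (inv_mem hu)
    · refine Or.inr ?_
      have h1 := eq_of_le_of_card_ge (inf_le_left : pl p V H a ⊓ pl p V H b ≤ _) (by rw [hc, hda.card_W])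
      have h2 := eq_of_le_of_card_ge (inf_le_right : pl p V H a ⊓ pl p V H b ≤ _) (by rw [hc, hdb.card_W])
      exact h1.symm.trans h2
  rcases hint with h | h
  · right
    have hkey : ∀ {a b : G}, IsTv p V H a → IsTv p V H b → pl p V H a ⊓ pl p V H b = ⊥ →
        pl p V H a ≤ fx V (epl p H b) := fun {a b} ha hb h u hu => by
      have huV := (epl_data hs ha).W_le hu
      refine mem_fx_of_rad hs hb huV fun r hr => commutatorElement_eq_one_iff_mul_comm.1 ?_
      rw [← mem_bot, ← h]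
      refine mem_inf.2 ⟨mul_mem (conj_mem_pl hs ha hr.2 hu) (inv_mem hu), ?_⟩
      rw [pl, ← commutatorElement_inv]
      exact inv_mem (commutator_mem_commutator huV hr.1)
    have hWC' := hkey ha hb h
    have hW'C := hkey hb ha (by rwa [inf_comm])
    have hWb : pl p V H a ≤ fx V (zpowers b) :=
      hWC'.trans (fx_anti (zpowers_le.2 hdb.mem))
    have hVb : ∀ v ∈ V, ⁅b, v⁆ ∈ fx V (epl p H a) := fun v hv =>
      (zpowers_le.2 (hW'C hwbW)) (hwb.range v hv)
    refine ⟨fun d hd => commutatorElement_eq_one_iff_mul_comm.1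
      (hs.faith ⁅d, b⁆ ?_ fun v hv => ?_), hWb, hVb⟩
    · have h1 := epl_le hs ha hd
      exact mul_mem (mul_mem (mul_mem h1 hb.mem) (inv_mem h1)) (inv_mem hb.mem)
    have hbW : ∀ u ∈ pl p V H a, b * u * b⁻¹ = u := fun u hu => by
      rw [(mem_fx.1 (hWb hu)).2 b (mem_zpowers b), mul_inv_cancel_right]
    have hdC : ∀ c ∈ fx V (epl p H a), d * c * d⁻¹ = c := fun c hc => by
      rw [(mem_fx.1 hc).2 d hd, mul_inv_cancel_right]
    have hbC : ∀ c ∈ fx V (epl p H a), b * c * b⁻¹ ∈ fx V (epl p H a) := fun c hc => by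
      rw [show b * c * b⁻¹ = ⁅b, c⁆ * c by rw [commutatorElement_def]; group]
      exact mul_mem (hVb c (mem_fx.1 hc).1) hc
    have hcomm : ∀ x ∈ V, d * (b * x * b⁻¹) * d⁻¹ = b * (d * x * d⁻¹) * b⁻¹ := by
      intro x hx
      obtain ⟨u, hu, c, hc, rfl⟩ := split_mem hs ha hx
      calc d * (b * (u * c) * b⁻¹) * d⁻¹ = (d * (b * u * b⁻¹) * d⁻¹) * (d * (b * c * b⁻¹) * d⁻¹) := by group
        _ = (b * (d * u * d⁻¹) * b⁻¹) * (b * (d * c * d⁻¹) * b⁻¹) := by
          rw [hbW u hu, hdC _ (hbC c hc), hbW _ (hda.D_norm d hd u hu), hdC c hc]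
        _ = _ := by group
    have hx : d⁻¹ * (b⁻¹ * v * b) * d ∈ V :=
      conj_inv_mem (hs.norm (epl_le hs ha hd)) (conj_inv_mem (hs.norm hb.mem) hv)
    have h2 := hcomm _ hx
    refine mul_inv_eq_iff_eq_mul.1 ?_
    calc ⁅d, b⁆ * v * ⁅d, b⁆⁻¹ = d * (b * (d⁻¹ * (b⁻¹ * v * b) * d) * b⁻¹) * d⁻¹ := by
          simp only [commutatorElement_def]; group
      _ = b * (d * (d⁻¹ * (b⁻¹ * v * b) * d) * d⁻¹) * b⁻¹ := h2
      _ = v := by group
  · left
    -- same plane
    have hC : ∀ {a b : G}, IsTv p V H a → IsTv p V H b → pl p V H a = pl p V H b →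
        fx V (epl p H a) ≤ fx V (epl p H b) := fun {a b} ha hb h c hc => by
      refine mem_fx_of_rad hs hb (mem_fx.1 hc).1 fun r hr => commutatorElement_eq_one_iff_mul_comm.1 ?_
      rw [← mem_bot, ← (epl_data hs ha).inf_fx]
      refine mem_inf.2 ⟨?_, mul_mem (conj_mem_fx hs ha hr.2 hc) (inv_mem hc)⟩
      rw [h, pl, ← commutatorElement_inv]
      exact inv_mem (commutator_mem_commutator (mem_fx.1 hc).1 hr.1)
    have hCb : fx V (epl p H a) ≤ fx V (zpowers b) :=
      (hC ha hb h).trans (fx_anti (zpowers_le.2 hdb.mem))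
    obtain ⟨c, hc, hcu⟩ := hda.lines wb (h ▸ hwbW) hwb.ne
    have hcC : fx V (epl p H a) ≤ fx V (zpowers c) := fx_anti (zpowers_le.2 hc)
    obtain ⟨w, hw, hwnot⟩ : ∃ w ∈ pl p V H a, w ∉ zpowers wb := by
      by_contra hno
      push Not at hno
      have := card_le_of_le (show pl p V H a ≤ zpowers wb from hno)
      rw [hda.card_W, Nat.card_zpowers, orderOf_eq_prime (hs.elem.2 wb hwb.memV) hwb.ne, pow_two] at this
      nlinarith [hp.out.two_le]
    have hwV := hda.W_le hw
    have hwp := hs.elem.2 wb hwb.memV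
    obtain ⟨i, hi⟩ := exists_pw_of_mem_zpowers hwp (hcu.range w hwV)
    obtain ⟨j, hj⟩ := exists_pw_of_mem_zpowers hwp (hwb.range w hwV)
    have hspan : pl p V H a = zpowers wb ⊔ zpowers w := by
      refine (eq_of_le_of_card_ge (sup_le (zpowers_le.2 (h ▸ hwbW)) (zpowers_le.2 hw)) ?_).symm
      have hle : Nat.card (zpowers wb) < Nat.card ↥(zpowers wb ⊔ zpowers w) := by
        refine lt_of_le_of_ne (card_le_of_le le_sup_left) fun e => hwnot ?_
        rw [eq_of_le_of_card_ge le_sup_left e.ge]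
        exact mem_sup_right (mem_zpowers w)
      obtain ⟨k, hk, hkc⟩ := (Nat.dvd_prime_pow hp.out).1 (hda.card_W ▸ card_dvd_of_le
        (sup_le (zpowers_le.2 (h ▸ hwbW)) (zpowers_le.2 hw)) : Nat.card ↥(zpowers wb ⊔ zpowers w) ∣ p ^ 2)
      rw [Nat.card_zpowers, orderOf_eq_prime hwp hwb.ne, hkc] at hle
      rw [hda.card_W, hkc]
      exact Nat.pow_le_pow_right hp.out.pos ((Nat.pow_lt_pow_iff_right hp.out.one_lt).1 ((pow_one p).symm ▸ hle))
    have hagree : ∀ (x y : G), (∀ u ∈ zpowers wb, x * u * x⁻¹ = y * u * y⁻¹) → x * w * x⁻¹ = y * w * y⁻¹ →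
        (∀ u ∈ fx V (epl p H a), x * u * x⁻¹ = y * u * y⁻¹) → ∀ v ∈ V, x * v * x⁻¹ = y * v * y⁻¹ := by
      intro x y h1 h2 h3 v hv
      have hle : V ≤ MonoidHom.eqLocus (MulAut.conj x).toMonoidHom (MulAut.conj y).toMonoidHom := by
        rw [← hda.sup_fx, hspan]
        exact sup_le (sup_le h1 (zpowers_le.2 h2)) h3
      exact hle hv
    have hi0 : i ≠ 0 := fun e => hcu.tv.ne (hs.faith c hcu.tv.mem fun v hv => by
      refine mul_inv_eq_iff_eq_mul.1 ?_
      have h4 := hagree c 1 (fun u hu => ?_) ?_ (fun u hu => ?_) v hv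
      · simpa using h4
      · obtain ⟨k, rfl⟩ := mem_zpowers_iff.1 hu
        rw [((show Commute c wb from hcu.comm).zpow_right k).eq]; group
      · rw [show c * w * c⁻¹ = ⁅c, w⁆ * w by rw [commutatorElement_def]; group, hi, e, pw_zero]; group
      · rw [(mem_fx.1 (hcC hu)).2 c (mem_zpowers c)]; group)
    set k := (j / i).val
    have hbck : b = c ^ k := by
      refine inv_mul_eq_one.1 (hs.faith _ (mul_mem (inv_mem hb.mem) (pow_mem hcu.tv.mem k)) fun v hv => ?_)
      refine mul_inv_eq_iff_eq_mul.1 ?_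
      have h5 := hagree b (c ^ k) (fun u hu => ?_) ?_ (fun u hu => ?_) v hv
      · calc b⁻¹ * c ^ k * v * (b⁻¹ * c ^ k)⁻¹ = b⁻¹ * (c ^ k * v * (c ^ k)⁻¹) * b := by group
          _ = v := by rw [← h5]; group
      · obtain ⟨l, rfl⟩ := mem_zpowers_iff.1 hu
        rw [((show Commute b wb from hwb.comm).zpow_right l).eq,
          (((show Commute c wb from hcu.comm).zpow_right l).pow_left k).eq]
        group
      · have hck : c ^ k * w * (c ^ k)⁻¹ = ⁅c, w⁆ ^ k * w := pow_conj_of_shift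
          (by rw [hi, pw]; exact ((show Commute c wb from hcu.comm).pow_right _).eq)
          (by rw [commutatorElement_def]; group) k
        rw [hck, show b * w * b⁻¹ = ⁅b, w⁆ * w by rw [commutatorElement_def]; group, hi, hj]
        congr 1
        show pw wb j = pw (pw wb i) (j / i)
        rw [pw_mul hwp, mul_div_cancel₀ _ hi0]
      · rw [(mem_fx.1 (hCb hu)).2 b (mem_zpowers b),
          ((show Commute c u from (mem_fx.1 (hcC hu)).2 c (mem_zpowers c)).pow_left k).eq]
        group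
    rw [hbck]
    exact pow_mem hc k

theorem split_group (hs : Setup p V H) (hgen : H ≤ closure {c | IsTv p V H c}) {a : G} (ha : IsTv p V H a) :
    H ≤ normalizer (epl p H a : Set G) ∧
      ⁅epl p H a, H ⊓ centralizer (pl p V H a : Set G)⁆ = ⊥ ∧
      epl p H a ⊔ (H ⊓ centralizer (pl p V H a : Set G)) = H ∧
      ⁅V, H ⊓ centralizer (pl p V H a : Set G)⁆ ≤ fx V (epl p H a) := by
  have hd := epl_data hs ha
  set E := epl p H a
  set C := fx V E with hCdef
  -- the complementary factor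
  set M := closure {b | IsTv p V H b ∧ b ∉ E}
  have hMc : M ≤ centralizer (E : Set G) := (closure_le _).2 fun b hb => mem_centralizer_iff.2
    (((tv_dichotomy hs ha hb.1).resolve_left hb.2).1)
  have hMW : M ≤ centralizer (pl p V H a : Set G) := (closure_le _).2 fun b hb => mem_centralizer_iff.2
    fun u hu => ((mem_fx.1 ((((tv_dichotomy hs ha hb.1).resolve_left hb.2).2.1) hu)).2 b (mem_zpowers b)).symm
  have hMH : M ≤ H := (closure_le _).2 fun b hb => hb.1.mem
  have hn : M ≤ normalizer (E : Set G) := hMc.trans (centralizer_le_normalizer _)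
  have hHEM : H ≤ E ⊔ M := hgen.trans ((closure_le _).2 fun b hb => by
    by_cases hbE : b ∈ E
    · exact mem_sup_left hbE
    · exact mem_sup_right (subset_closure ⟨hb, hbE⟩))
  have hKM : H ⊓ centralizer (pl p V H a : Set G) ≤ M := by
    intro k hk
    have := hHEM hk.1
    rw [← SetLike.mem_coe, coe_mul_of_right_le_normalizer_left _ _ hn, Set.mem_mul] at this
    obtain ⟨e, he, m, hm, rfl⟩ := this
    have he1 : e ∈ E ⊓ centralizer (pl p V H a : Set G) := mem_inf.2 ⟨he, by
      have := mul_mem (mem_inf.1 hk).2 (inv_mem (hMW hm)); rwa [mul_inv_cancel_right] at this⟩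
    rw [hd.faith, mem_bot] at he1
    rwa [he1, one_mul]
  have hMV : ⁅V, M⁆ ≤ C := by
    refine commutator_le.2 fun v hv m hm => ?_
    suffices h : ∀ w ∈ V, ⁅m, w⁆ ∈ C by rw [← commutatorElement_inv]; exact inv_mem (h v hv)
    clear hv
    induction hm using Subgroup.closure_induction with
    | mem x hx => exact ((tv_dichotomy hs ha hx.1).resolve_left hx.2).2.2
    | one => intro w _; rw [commutatorElement_one_left]; exact one_mem _
    | mul x y hx hy hX hY =>
      intro w hw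
      rw [show ⁅x * y, w⁆ = ⁅x, ⁅y, w⁆⁆ * ⁅y, w⁆ * ⁅x, w⁆ by simp only [commutatorElement_def]; group]
      exact mul_mem (mul_mem (hX _ (mem_fx.1 (hY w hw)).1) (hY w hw)) (hX w hw)
    | inv x hx hX =>
      intro w hw
      have hxn := hs.norm (hMH hx)
      rw [show ⁅x⁻¹, w⁆ = ⁅x, x⁻¹ * w * x⁆⁻¹ by simp only [commutatorElement_def]; group]
      exact inv_mem (hX _ (conj_inv_mem hxn hw))
  refine ⟨hHEM.trans (sup_le le_normalizer hn), ?_, ?_, ?_⟩
  · exact commutator_eq_bot_iff_le_centralizer.2 (le_centralizer_iff.1 (hKM.trans hMc))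
  · exact le_antisymm (sup_le (epl_le hs ha) inf_le_left)
      (hHEM.trans (sup_le_sup le_rfl (le_inf hMH hMW)))
  · exact (commutator_mono le_rfl hKM).trans hMV

end Cfsg.Lib.FF
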