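import Cfsg.Agent.FFModule.Basic
import Cfsg.Agent.Components.Supplement

/-!
Subnormal subgroups irreducible on their commutator modules.
-/

set_option autoImplicit false
set_option linter.unusedSectionVars false
set_option linter.style.haveILetI false

namespace Cfsg.Lib.FF

open Subgroup
open scoped commutatorElement

variable {G : Type*} [Group G] {p : ℕ}

theorem isSubnormal_comap {A B : Type*} [Group A] [Group B] (f : A →* B) {K : Subgroup B}
    (hK : K.IsSubnormal) : (K.comap f).IsSubnormal := by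
  induction hK with
  | top => rw [comap_top]; exact IsSubnormal.top
  | step H K hle _ hN ih =>
    refine IsSubnormal.step _ _ (comap_mono hle) ih ?_
    rw [normal_subgroupOf_iff_le_normalizer (comap_mono hle)]
    rw [normal_subgroupOf_iff_le_normalizer hle] at hN
    exact (comap_mono hN).trans (le_normalizer_comap f)

theorem isSubnormal_restrict {X E E' : Subgroup G} (hE : E' ≤ E) (hs : (X.subgroupOf E).IsSubnormal) :
    (X.subgroupOf E').IsSubnormal := by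
  have h := isSubnormal_comap (inclusion hE) hs
  rwa [subgroupOf, comap_comap, subtype_comp_inclusion] at h

theorem mem_normalizer_of_fixed {U : Subgroup G} {g : G} (h : ∀ z ∈ U, g * z = z * g) :
    g ∈ normalizer (U : Set G) := by
  refine mem_normalizer_iff.2 fun z => ⟨fun hz => ?_, fun hz => ?_⟩
  · rwa [h z hz, mul_inv_cancel_right]
  · have h' := h _ hz
    rw [mul_assoc, mul_assoc, mul_right_inj] at h'
    have h2 : g * z * g⁻¹ = z := by
      simpa [mul_assoc] using h'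
    rwa [h2] at hz

/-- The hypotheses on one factor. -/
structure Factor (p : ℕ) (V X : Subgroup G) : Prop where
  norm : X ≤ normalizer (V : Set G)
  faith : ∀ x ∈ X, (∀ v ∈ V, x * v = v * x) → x = 1
  irr : ∀ U : Subgroup G, U ≤ ⁅V, X⁆ → X ≤ normalizer (U : Set G) → U = ⊥ ∨ U = ⁅V, X⁆
  noP : ∀ P : Subgroup G, P ≤ X → X ≤ normalizer (P : Set G) → IsPGroup p P → P = ⊥
  big : 2 < Nat.card X

variable [Finite G] [hp : Fact p.Prime] {V : Subgroup G}

theorem commutator_le_V {X : Subgroup G} (hX : X ≤ normalizer (V : Set G)) : ⁅V, X⁆ ≤ V :=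
  commutator_le.2 fun v hv x hx => by
    rw [← commutatorElement_inv]; exact inv_mem (comm_mem (hX hx) hv)

theorem normalizes_commutator {X : Subgroup G} : X ≤ normalizer ((⁅V, X⁆ : Subgroup G) : Set G) :=
  Cfsg.Lib.Coprime.le_normalizer_commutator_right X V

/-- A subgroup fixing a module and its quotient has no room. -/
theorem eq_one_of_quadratic (hV : Cfsg.IsElementaryAbelian p V) {X P : Subgroup G} (hX : Factor p V X)
    (hPX : P ≤ X) (hn : X ≤ normalizer (P : Set G)) (h1 : ∀ g ∈ P, ∀ u ∈ ⁅V, X⁆, g * u = u * g) : P = ⊥ := by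
  refine hX.noP P hPX hn fun g => ⟨1, Subtype.ext ?_⟩
  rw [pow_one]
  push_cast
  refine hX.faith _ (pow_mem (hPX g.2) p) fun v hv => ?_
  have hu : ⁅(g : G), v⁆ ∈ ⁅V, X⁆ := by
    rw [← commutatorElement_inv]; exact inv_mem (commutator_mem_commutator hv (hPX g.2))
  have hpow : ∀ i : ℕ, (g : G) ^ i * v * ((g : G) ^ i)⁻¹ = ⁅(g : G), v⁆ ^ i * v := by
    intro i
    induction i with
    | zero => simp
    | succ i ih =>
      calc (g : G) ^ (i + 1) * v * ((g : G) ^ (i + 1))⁻¹ = g * ((g : G) ^ i * v * ((g : G) ^ i)⁻¹) * (g : G)⁻¹ := by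
            rw [pow_succ']; group
        _ = ((g : G) * ⁅(g : G), v⁆ * (g : G)⁻¹) ^ i * (g * v * (g : G)⁻¹) := by rw [ih, conj_pow]; group
        _ = ⁅(g : G), v⁆ ^ i * (⁅(g : G), v⁆ * v) := by
          rw [h1 _ g.2 _ hu, mul_inv_cancel_right, commutatorElement_def]; group
        _ = _ := by rw [← mul_assoc, pow_succ]
  have h := hpow p
  rw [hV.2 _ (commutator_le_V hX.norm hu), one_mul] at h
  exact mul_inv_eq_iff_eq_mul.1 h

theorem comm_self (hV : Cfsg.IsElementaryAbelian p V) {X : Subgroup G} (hX : Factor p V X) :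
    ⁅⁅V, X⁆, X⁆ = ⁅V, X⁆ := by
  have hle : ⁅⁅V, X⁆, X⁆ ≤ ⁅V, X⁆ := commutator_le.2 fun u hu x hx => by
    rw [← commutatorElement_inv]; exact inv_mem (comm_mem (normalizes_commutator hx) hu)
  refine (hX.irr _ hle (Cfsg.Lib.Coprime.le_normalizer_commutator_right X _)).resolve_left fun h => ?_
  have hX1 := eq_one_of_quadratic hV hX le_rfl le_normalizer fun g hg u hu => by
    rw [commutator_eq_bot_iff_le_centralizer] at h
    exact (mem_centralizer_iff.1 (h hu) g hg)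
  have := hX.big
  rw [hX1, card_bot] at this
  omega

theorem factor_conj (_hV : Cfsg.IsElementaryAbelian p V) {X : Subgroup G} (hX : Factor p V X) {e : G}
    (he : e ∈ normalizer (V : Set G)) :
    Factor p V (X.map (MulAut.conj e).toMonoidHom) ∧
      ⁅V, X.map (MulAut.conj e).toMonoidHom⁆ = (⁅V, X⁆).map (MulAut.conj e).toMonoidHom := by
  have hVe : V.map (MulAut.conj e).toMonoidHom = V := by
    refine eq_of_le_of_card_ge ?_ (by rw [card_map_of_injective (MulAut.conj e).injective])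
    rintro _ ⟨v, hv, rfl⟩; exact conj_mem he hv
  have hcomm : ⁅V, X.map (MulAut.conj e).toMonoidHom⁆ = (⁅V, X⁆).map (MulAut.conj e).toMonoidHom := by
    rw [map_commutator, hVe]
  refine ⟨⟨?_, ?_, ?_, ?_, ?_⟩, hcomm⟩
  · rintro _ ⟨x, hx, rfl⟩; exact mul_mem (mul_mem he (hX.norm hx)) (inv_mem he)
  · rintro _ ⟨x, hx, rfl⟩ h
    rw [show x = 1 from hX.faith x hx fun v hv => ?_, map_one]
    have h2 := h _ (conj_mem he hv)
    simp only [MulEquiv.coe_toMonoidHom, MulAut.conj_apply] at h2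
    have h3 : (e * x * e⁻¹) * (e * v * e⁻¹) = (e * v * e⁻¹) * (e * x * e⁻¹) := h2
    rwa [show e * x * e⁻¹ * (e * v * e⁻¹) = e * (x * v) * e⁻¹ by group,
      show e * v * e⁻¹ * (e * x * e⁻¹) = e * (v * x) * e⁻¹ by group, mul_left_inj, mul_right_inj] at h3
  · intro U hU hn
    rw [hcomm] at hU ⊢
    have h := hX.irr (U.comap (MulAut.conj e).toMonoidHom)
      ((comap_mono hU).trans (comap_map_eq_self_of_injective (MulAut.conj e).injective _).le)
      (fun x hx => le_normalizer_comap _ (hn ⟨x, hx, rfl⟩))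
    have hU' : (U.comap (MulAut.conj e).toMonoidHom).map (MulAut.conj e).toMonoidHom = U :=
      map_comap_eq_self_of_surjective (MulAut.conj e).surjective U
    rcases h with h | h
    · exact Or.inl (by rw [← hU', h, Subgroup.map_bot])
    · exact Or.inr (by rw [← hU', h])
  · intro P hP hn hp'
    have h := hX.noP (P.comap (MulAut.conj e).toMonoidHom)
      ((comap_mono hP).trans (comap_map_eq_self_of_injective (MulAut.conj e).injective _).le)
      (fun x hx => le_normalizer_comap _ (hn ⟨x, hx, rfl⟩))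
      (hp'.comap_of_injective _ (MulAut.conj e).injective)
    rw [← map_comap_eq_self_of_surjective (f := (MulAut.conj e).toMonoidHom) (MulAut.conj e).surjective P, h,
      Subgroup.map_bot]
  · rw [card_map_of_injective (MulAut.conj e).injective]; exact hX.big

/-- Moving the other module is impossible. -/
theorem moved_symm (hV : Cfsg.IsElementaryAbelian p V) {E₁ E₂ : Subgroup G} (h1 : Factor p V E₁)
    (h2 : Factor p V E₂) (h12 : ¬ ⁅V, E₁⁆ ≤ ⁅V, E₂⁆)
    (hfix : ∀ e ∈ E₂, e ∉ normalizer ((⁅V, E₁⁆ : Subgroup G) : Set G) → ∀ f ∈ E₁, ∀ u ∈ ⁅V, E₁⁆,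
      f * (e * u * e⁻¹) = (e * u * e⁻¹) * f)
    {e : G} (he : e ∈ E₂) (hmove : e ∉ normalizer ((⁅V, E₁⁆ : Subgroup G) : Set G)) :
    ∃ f ∈ E₁, f ∉ normalizer ((⁅V, E₂⁆ : Subgroup G) : Set G) := by
  by_contra hno
  push Not at hno
  refine h12 ?_
  conv_lhs => rw [← comm_self hV h1]
  refine commutator_le.2 fun u hu f hf => ?_
  have huV := commutator_le_V h1.norm hu
  have hd : ⁅e, u⁆ ∈ ⁅V, E₂⁆ := by
    rw [← commutatorElement_inv]; exact inv_mem (commutator_mem_commutator huV he)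
  have hw : Commute f (e * u * e⁻¹) := hfix e he hmove f hf u hu
  have key : ⁅u, f⁆ = (⁅e, u⁆)⁻¹ * (f * ⁅e, u⁆ * f⁻¹) := by
    have hV2 : Commute (e * u * e⁻¹) u := comm_elem hV (conj_mem (h2.norm he) huV) huV
    calc ⁅u, f⁆ = u * (f * u⁻¹ * f⁻¹) := by rw [commutatorElement_def]; group
      _ = u * (e * u * e⁻¹)⁻¹ * ((e * u * e⁻¹) * f * u⁻¹ * f⁻¹) := by group
      _ = u * (e * u * e⁻¹)⁻¹ * (f * (e * u * e⁻¹) * u⁻¹ * f⁻¹) := by rw [← hw.eq]
      _ = _ := by rw [commutatorElement_def]; group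
  rw [key]
  exact mul_mem (inv_mem hd) (conj_mem (hno f hf) hd)

theorem fx_comm_bot (hV : Cfsg.IsElementaryAbelian p V) {X : Subgroup G} (hX : Factor p V X) :
    fx ⁅V, X⁆ X = ⊥ := by
  refine (hX.irr _ inf_le_left fun g hg => ?_).resolve_right fun h => ?_
  · exact mem_normalizer_of_fixed fun z hz => (mem_fx.1 hz).2 g hg
  · have hbot : ⁅⁅V, X⁆, X⁆ = ⊥ := commutator_eq_bot_iff_le_centralizer.2 ((le_of_eq h.symm).trans inf_le_right)
    have hX1 := eq_one_of_quadratic hV hX le_rfl le_normalizer fun g hg u hu =>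
      (mem_centralizer_iff.1 (((le_of_eq h.symm).trans inf_le_right) hu) g hg)
    have := hX.big
    rw [hX1, card_bot] at this
    omega

/-- Elements of `Y` moving the module of `X` agree on it. -/
theorem agree (hV : Cfsg.IsElementaryAbelian p V) {X Y : Subgroup G} (hX : Factor p V X) (hY : Factor p V Y)
    (hfixX : ∀ e ∈ Y, e ∉ normalizer ((⁅V, X⁆ : Subgroup G) : Set G) → ∀ f ∈ X, ∀ u ∈ ⁅V, X⁆,
      f * (e * u * e⁻¹) = (e * u * e⁻¹) * f)
    (hfixY : ∀ e ∈ X, e ∉ normalizer ((⁅V, Y⁆ : Subgroup G) : Set G) → ∀ f ∈ Y, ∀ u ∈ ⁅V, Y⁆,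
      f * (e * u * e⁻¹) = (e * u * e⁻¹) * f)
    {f₀ : G} (hf₀ : f₀ ∈ X) (hf₀m : f₀ ∉ normalizer ((⁅V, Y⁆ : Subgroup G) : Set G))
    {e e' : G} (he : e ∈ Y) (hem : e ∉ normalizer ((⁅V, X⁆ : Subgroup G) : Set G))
    (he' : e' ∈ Y) (hem' : e' ∉ normalizer ((⁅V, X⁆ : Subgroup G) : Set G))
    {v : G} (hv : v ∈ ⁅V, X⁆) : e * v * e⁻¹ = e' * v * e'⁻¹ := by
  have hvV := commutator_le_V hX.norm hv
  have hmemd : ∀ y ∈ Y, ⁅y, v⁆ ∈ ⁅V, Y⁆ := fun y hy => by
    rw [← commutatorElement_inv]; exact inv_mem (commutator_mem_commutator hvV hy)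
  set d := (e * v * e⁻¹) * (e' * v * e'⁻¹)⁻¹ with hd
  have hd2 : d ∈ ⁅V, Y⁆ := by
    rw [show d = ⁅e, v⁆ * ⁅e', v⁆⁻¹ by rw [hd, commutatorElement_def, commutatorElement_def]; group]
    exact mul_mem (hmemd e he) (inv_mem (hmemd e' he'))
  have hdc : Commute f₀ d :=
    (show Commute f₀ (e * v * e⁻¹) from hfixX e he hem f₀ hf₀ v hv).mul_right
      (show Commute f₀ (e' * v * e'⁻¹) from hfixX e' he' hem' f₀ hf₀ v hv).inv_right
  have hd' : d ∈ fx ⁅V, Y⁆ Y := mem_fx.2 ⟨hd2, fun y hy => by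
    have := hfixY f₀ hf₀ hf₀m y hy d hd2
    rwa [hdc.eq, mul_inv_cancel_right] at this⟩
  rw [fx_comm_bot hV hY, mem_bot, mul_inv_eq_one] at hd'
  exact hd'

/-- If each factor moves the module of the other, the first one is too small. -/
theorem no_move (hV : Cfsg.IsElementaryAbelian p V) {E₁ E₂ : Subgroup G} (h1 : Factor p V E₁)
    (h2 : Factor p V E₂) (h12 : ¬ ⁅V, E₁⁆ ≤ ⁅V, E₂⁆)
    (hfix1 : ∀ e ∈ E₂, e ∉ normalizer ((⁅V, E₁⁆ : Subgroup G) : Set G) → ∀ f ∈ E₁, ∀ u ∈ ⁅V, E₁⁆,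
      f * (e * u * e⁻¹) = (e * u * e⁻¹) * f)
    (hfix2 : ∀ e ∈ E₁, e ∉ normalizer ((⁅V, E₂⁆ : Subgroup G) : Set G) → ∀ f ∈ E₂, ∀ u ∈ ⁅V, E₂⁆,
      f * (e * u * e⁻¹) = (e * u * e⁻¹) * f) :
    E₂ ≤ normalizer ((⁅V, E₁⁆ : Subgroup G) : Set G) := by
  intro e₀ he₀
  by_contra hmove
  obtain ⟨f₀, hf₀, hf₀m⟩ := moved_symm hV h1 h2 h12 hfix1 he₀ hmove
  set N := normalizer ((⁅V, E₂⁆ : Subgroup G) : Set G) with hN
  have hag : ∀ g ∈ E₁, g ∉ N → ∀ w ∈ ⁅V, E₂⁆, g * w * g⁻¹ = f₀ * w * f₀⁻¹ := fun g hg hgm w hw =>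
    agree hV h2 h1 hfix2 hfix1 he₀ hmove hg hgm hf₀ hf₀m hw
  have hP2 : ∀ s ∈ E₁ ⊓ N, ∀ w ∈ ⁅V, E₂⁆, s * w * s⁻¹ = w := by
    intro s hs w hw
    have hm : f₀ * s ∉ N := fun h => hf₀m (by simpa using mul_mem h (inv_mem (mem_inf.1 hs).2))
    have := hag _ (mul_mem hf₀ (mem_inf.1 hs).1) hm w hw
    rwa [show f₀ * s * w * (f₀ * s)⁻¹ = f₀ * (s * w * s⁻¹) * f₀⁻¹ by group, mul_left_inj, mul_right_inj] at this
  have hfixN : ∀ g, (∀ w ∈ ⁅V, E₂⁆, g * w * g⁻¹ = w) → g ∈ N := fun g h => by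
    exact mem_normalizer_of_fixed fun w hw => mul_inv_eq_iff_eq_mul.1 (h w hw)
  have hP1 : ∀ s ∈ E₁ ⊓ N, ∀ v ∈ ⁅V, E₁⁆, s * v = v * s := by
    intro s hs v hv
    have hd : ⁅e₀, v⁆ ∈ ⁅V, E₂⁆ := by
      rw [← commutatorElement_inv]
      exact inv_mem (commutator_mem_commutator (commutator_le_V h1.norm hv) he₀)
    have c1 : Commute s ⁅e₀, v⁆ := mul_inv_eq_iff_eq_mul.1 (hP2 s hs _ hd)
    have c2 : Commute s (e₀ * v * e₀⁻¹) := hfix1 e₀ he₀ hmove s (mem_inf.1 hs).1 v hv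
    have := c1.inv_right.mul_right c2
    rwa [show ⁅e₀, v⁆⁻¹ * (e₀ * v * e₀⁻¹) = v by rw [commutatorElement_def]; group] at this
  have hPn : E₁ ≤ normalizer ((E₁ ⊓ N : Subgroup G) : Set G) := by
    have hcl : ∀ g ∈ E₁, ∀ s ∈ E₁ ⊓ N, g * s * g⁻¹ ∈ E₁ ⊓ N := by
      intro g hg s hs
      obtain ⟨hs1, hs2⟩ := mem_inf.1 hs
      refine mem_inf.2 ⟨mul_mem (mul_mem hg hs1) (inv_mem hg), ?_⟩
      by_cases hgN : g ∈ N
      · exact mul_mem (mul_mem hgN hs2) (inv_mem hgN)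
      by_contra hx
      have h3 : g⁻¹ * (g * s * g⁻¹) ∈ N := hfixN _ fun w hw => by
        calc g⁻¹ * (g * s * g⁻¹) * w * (g⁻¹ * (g * s * g⁻¹))⁻¹ =
            g⁻¹ * ((g * s * g⁻¹) * w * (g * s * g⁻¹)⁻¹) * g := by group
          _ = g⁻¹ * (g * w * g⁻¹) * g := by
            rw [hag _ (mul_mem (mul_mem hg hs1) (inv_mem hg)) hx w hw, hag g hg hgN w hw]
          _ = w := by group
      have := mul_mem (inv_mem hs2) h3
      exact hgN (by simpa [mul_assoc] using this)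
    intro g hg
    exact mem_normalizer_iff.2 fun z => ⟨hcl g hg z, fun hz => by
      simpa [mul_assoc] using hcl g⁻¹ (inv_mem hg) _ hz⟩
  have hPbot : E₁ ⊓ N = ⊥ := eq_one_of_quadratic hV h1 inf_le_left hPn hP1
  have hcard : Nat.card E₁ ≤ 2 := by
    haveI : Fintype E₁ := Fintype.ofFinite _
    classical
    rw [Nat.card_eq_fintype_card, ← Finset.card_univ]
    refine le_trans (Finset.card_le_card (t := {1, ⟨f₀, hf₀⟩}) fun g _ => ?_) Finset.card_le_two
    by_cases hgN : (g : G) ∈ N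
    · have : (g : G) ∈ E₁ ⊓ N := mem_inf.2 ⟨g.2, hgN⟩
      rw [hPbot, mem_bot] at this
      simp [Subtype.ext_iff, this]
    · have h3 : f₀⁻¹ * (g : G) ∈ E₁ ⊓ N := mem_inf.2 ⟨mul_mem (inv_mem hf₀) g.2, hfixN _ fun w hw => by
        calc f₀⁻¹ * (g : G) * w * (f₀⁻¹ * (g : G))⁻¹ = f₀⁻¹ * ((g : G) * w * (g : G)⁻¹) * f₀ := by group
          _ = w := by rw [hag g g.2 hgN w hw]; group⟩
      rw [hPbot, mem_bot, inv_mul_eq_one] at h3
      simp [Subtype.ext_iff, ← h3]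
  have := h1.big
  omega

theorem commute_aux (hV : Cfsg.IsElementaryAbelian p V) : ∀ n : ℕ, ∀ E E₁ E₂ : Subgroup G, Nat.card E = n →
    E = E₁ ⊔ E₂ → (E₁.subgroupOf E).IsSubnormal → (E₂.subgroupOf E).IsSubnormal →
    Factor p V E₁ → Factor p V E₂ → (∀ x ∈ E, (∀ v ∈ V, x * v = v * x) → x = 1) →
    ¬ ⁅V, E₁⁆ ≤ ⁅V, E₂⁆ → ¬ ⁅V, E₂⁆ ≤ ⁅V, E₁⁆ →
    ⁅E₁, E₂⁆ = ⊥ ∧ E₁ ⊓ E₂ = ⊥ ∧ ⁅V, E₁⁆ ⊓ ⁅V, E₂⁆ = ⊥ := by
  intro n
  induction n using Nat.strong_induction_on with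
  | _ n ih =>
  intro E E₁ E₂ hn hE hs₁ hs₂ h1 h2 hfaith h12 h21
  -- conjugates in a smaller group
  have hfix : ∀ {X Y : Subgroup G}, X ≤ E → Y ≤ E → (X.subgroupOf E).IsSubnormal → Factor p V X →
      Factor p V Y → (X.subgroupOf E ≠ ⊤) →
      ∀ e ∈ Y, e ∉ normalizer ((⁅V, X⁆ : Subgroup G) : Set G) → ∀ f ∈ X, ∀ u ∈ ⁅V, X⁆,
      f * (e * u * e⁻¹) = (e * u * e⁻¹) * f := by
    intro X Y hXE hYE hsX hX hY hne e he hmove f hf u hu
    obtain ⟨N, hN, hXN, hNlt⟩ := hsX.exists_normal_and_le_and_lt_top_of_ne hne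
    obtain ⟨hXe, hce⟩ := factor_conj hV hX (hY.norm he)
    set Xe := X.map (MulAut.conj e).toMonoidHom
    set E' := X ⊔ Xe
    have hXN' : X ≤ N.map E.subtype := fun x hx => ⟨⟨x, hXE hx⟩, hXN hx, rfl⟩
    have hXeN : Xe ≤ N.map E.subtype := by
      rintro _ ⟨x, hx, rfl⟩
      exact ⟨_, hN.conj_mem _ (hXN (show (⟨x, hXE hx⟩ : E) ∈ X.subgroupOf E from hx)) ⟨e, hYE he⟩, rfl⟩
    have hE'E : E' ≤ E := (sup_le hXN' hXeN).trans (map_subtype_le N)
    have hlt : Nat.card E' < n := by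
      rw [← hn]
      refine lt_of_le_of_lt (card_le_of_le (sup_le hXN' hXeN)) ?_
      rw [card_map_of_injective E.subtype_injective]
      refine lt_of_le_of_ne (card_le_card_group N) fun h => hNlt.ne (N.eq_top_of_card_eq h)
    have hsXe : (Xe.subgroupOf E).IsSubnormal := by
      have h := isSubnormal_comap (MulAut.conj (⟨e, hYE he⟩ : E)⁻¹).toMonoidHom hsX
      have heq : (X.subgroupOf E).comap (MulAut.conj (⟨e, hYE he⟩ : E)⁻¹).toMonoidHom = Xe.subgroupOf E := by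
        ext z
        simp only [mem_comap, mem_subgroupOf, MulEquiv.coe_toMonoidHom, MulAut.conj_apply, Xe, mem_map_equiv,
          MulAut.conj_symm_apply]
        push_cast
        rw [inv_inv]
      rwa [heq] at h
    have hneq : ⁅V, Xe⁆ ≠ ⁅V, X⁆ := fun h => hmove (by
      refine mem_normalizer_iff.2 fun x => ⟨fun hx => ?_, fun hx => ?_⟩
      · rw [← h, hce]; exact ⟨x, hx, rfl⟩
      · rw [← h, hce] at hx
        obtain ⟨y, hy, hye⟩ := hx
        rwa [show y = x from (MulAut.conj e).injective hye] at hy)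
    have hcard : Nat.card ↥(⁅V, Xe⁆) = Nat.card ↥(⁅V, X⁆) := by
      rw [hce, card_map_of_injective (MulAut.conj e).injective]
    obtain ⟨hc, -, hi⟩ := ih _ hlt E' X Xe rfl rfl (isSubnormal_restrict hE'E hsX)
      (isSubnormal_restrict hE'E hsXe) hX hXe (fun x hx => hfaith x (hE'E hx))
      (fun h => hneq (eq_of_le_of_card_ge h hcard.le).symm)
      (fun h => hneq (eq_of_le_of_card_ge h hcard.ge))
    have hu' : e * u * e⁻¹ ∈ ⁅V, Xe⁆ := hce ▸ ⟨u, hu, rfl⟩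
    refine commutatorElement_eq_one_iff_mul_comm.1 (mem_bot.1 (hi ▸ mem_inf.2 ⟨?_, ?_⟩))
    · rw [← commutatorElement_inv]
      exact inv_mem (commutator_mem_commutator (commutator_le_V hXe.norm hu') hf)
    · refine mul_mem ?_ (inv_mem hu')
      have hfc : ∀ x ∈ Xe, f * x = x * f := fun x hx =>
        (mem_centralizer_iff.1 ((commutator_eq_bot_iff_le_centralizer.1 hc) hf) x hx).symm
      have hle : (⁅V, Xe⁆).map (MulAut.conj f).toMonoidHom ≤ ⁅V, Xe⁆ := by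
        rw [map_commutator]
        refine commutator_mono ?_ ?_
        · rintro _ ⟨v, hv, rfl⟩; exact conj_mem (hX.norm hf) hv
        · rintro _ ⟨x, hx, rfl⟩
          show f * x * f⁻¹ ∈ Xe
          rwa [hfc x hx, mul_inv_cancel_right]
      exact hle ⟨_, hu', rfl⟩
  have hE1 : E₁ ≤ E := hE ▸ le_sup_left
  have hE2 : E₂ ≤ E := hE ▸ le_sup_right
  have hne1 : E₁.subgroupOf E ≠ ⊤ := fun h => h21 (commutator_mono le_rfl (hE2.trans (subgroupOf_eq_top.1 h)))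
  have hne2 : E₂.subgroupOf E ≠ ⊤ := fun h => h12 (commutator_mono le_rfl (hE1.trans (subgroupOf_eq_top.1 h)))
  have hfix1 := hfix hE1 hE2 hs₁ h1 h2 hne1
  have hfix2 := hfix hE2 hE1 hs₂ h2 h1 hne2
  have hnomove := no_move hV h1 h2 h12 hfix1 hfix2
  have hnomove' := no_move hV h2 h1 h21 hfix2 hfix1
  have hI : ⁅V, E₁⁆ ⊓ ⁅V, E₂⁆ = ⊥ := by
    refine (h1.irr _ inf_le_left ?_).resolve_right fun h => h12 (h ▸ inf_le_right)
    exact Cfsg.Lib.Coprime.le_normalizer_inf normalizes_commutator hnomove'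
  have hc1 : ∀ f ∈ E₁, ∀ w ∈ ⁅V, E₂⁆, f * w = w * f := fun f hf w hw =>
    commutatorElement_eq_one_iff_mul_comm.1 (mem_bot.1 (hI ▸ mem_inf.2 ⟨by
      rw [← commutatorElement_inv]
      exact inv_mem (commutator_mem_commutator (commutator_le_V h2.norm hw) hf),
      mul_mem (conj_mem (hnomove' hf) hw) (inv_mem hw)⟩))
  have hc2 : ∀ e ∈ E₂, ∀ u ∈ ⁅V, E₁⁆, e * u = u * e := fun e he u hu =>
    commutatorElement_eq_one_iff_mul_comm.1 (mem_bot.1 (hI ▸ mem_inf.2 ⟨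
      mul_mem (conj_mem (hnomove he) hu) (inv_mem hu), by
      rw [← commutatorElement_inv]
      exact inv_mem (commutator_mem_commutator (commutator_le_V h1.norm hu) he)⟩))
  have hcomm : ∀ f ∈ E₁, ∀ e ∈ E₂, f * e = e * f := by
    intro f hf e he
    have hact : ∀ x ∈ V, f * (e * x * e⁻¹) * f⁻¹ = e * (f * x * f⁻¹) * e⁻¹ := by
      intro x hx
      have a1 : ⁅e, x⁆ ∈ ⁅V, E₂⁆ := by
        rw [← commutatorElement_inv]; exact inv_mem (commutator_mem_commutator hx he)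
      have a2 : ⁅f, x⁆ ∈ ⁅V, E₁⁆ := by
        rw [← commutatorElement_inv]; exact inv_mem (commutator_mem_commutator hx hf)
      have b1 : f * (e * x * e⁻¹) * f⁻¹ = f * ⁅e, x⁆ * f⁻¹ * (⁅f, x⁆ * x) := by
        simp only [commutatorElement_def]; group
      have b2 : e * (f * x * f⁻¹) * e⁻¹ = e * ⁅f, x⁆ * e⁻¹ * (⁅e, x⁆ * x) := by
        simp only [commutatorElement_def]; group
      rw [b1, b2, hc1 f hf _ a1, hc2 e he _ a2, mul_inv_cancel_right, mul_inv_cancel_right, ← mul_assoc,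
        ← mul_assoc, comm_elem hV (commutator_le_V h2.norm a1) (commutator_le_V h1.norm a2)]
    refine commutatorElement_eq_one_iff_mul_comm.1 (hfaith _ ?_ fun z hz => ?_)
    · exact mul_mem (mul_mem (mul_mem (hE1 hf) (hE2 he)) (inv_mem (hE1 hf))) (inv_mem (hE2 he))
    · refine mul_inv_eq_iff_eq_mul.1 ?_
      have hx : f⁻¹ * (e⁻¹ * z * e) * f ∈ V := by
        have := conj_mem (inv_mem (h1.norm hf)) (conj_mem (inv_mem (h2.norm he)) hz)
        rwa [inv_inv, inv_inv] at this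
      have h := hact _ hx
      calc ⁅f, e⁆ * z * ⁅f, e⁆⁻¹ = f * (e * (f⁻¹ * (e⁻¹ * z * e) * f) * e⁻¹) * f⁻¹ := by
            simp only [commutatorElement_def]; group
        _ = e * (f * (f⁻¹ * (e⁻¹ * z * e) * f) * f⁻¹) * e⁻¹ := h
        _ = z := by group
  refine ⟨commutator_eq_bot_iff_le_centralizer.2 fun f hf => mem_centralizer_iff.2 fun e he =>
    (hcomm f hf e he).symm, ?_, hI⟩
  refine eq_one_of_quadratic hV h1 inf_le_left (fun g hg => ?_) fun g hg u hu => hc2 g (mem_inf.1 hg).2 u hu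
  exact mem_normalizer_of_fixed fun z hz => hcomm g hg z (mem_inf.1 hz).2

end Cfsg.Lib.FF
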