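import Cfsg.Agent.FFModule.Structure
import Cfsg.Agent.Classical.Misc.SLTwoTori
import Cfsg.Agent.Coprime.Action

/-!
Consequences: the `p'`-commutator of a transvection and the product decomposition.
-/

set_option autoImplicit false
set_option linter.unusedSectionVars false
set_option linter.style.haveILetI false

namespace Cfsg.Lib.FF

open Subgroup
open scoped commutatorElement

variable {G : Type*} [Group G] [Finite G] {p : ℕ} [hp : Fact p.Prime] {V H : Subgroup G}

theorem exists_noncomm_four : ∃ x y : Matrix.SpecialLinearGroup (Fin 2) (ZMod 3),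
    x ^ 4 = 1 ∧ y ^ 4 = 1 ∧ x * y ≠ y * x :=
  ⟨⟨!![0, -1; 1, 0], by decide⟩, ⟨!![1, 1; 1, -1], by decide⟩, by decide, by decide, by decide⟩

theorem commutator_structure (hs : Setup p V H) {a : G} (ha : IsTv p V H a) :
    (p = 2 ∧ IsPGroup 3 ↥(⁅core p H, zpowers a⁆)) ∨
      (p = 3 ∧ IsPGroup 2 ↥(⁅core p H, zpowers a⁆) ∧ ¬ IsMulCommutative ↥(⁅core p H, zpowers a⁆)) := by
  have hd := epl_data hs ha
  obtain ⟨θ⟩ := hd.iso
  set N := ⁅core p H, zpowers a⁆
  have hNQ : N ≤ core p H := commutator_core_le ha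
  have hNE : N ≤ epl p H a := le_sup_left
  have hcardE : Nat.card (epl p H a) = p * (p ^ 2 - 1) := by
    rw [Nat.card_congr θ.toEquiv, Cfsg.Lib.Classical.SLTwoTori.card_SL2, ZMod.card]
  have hdvd : Nat.card N ∣ p ^ 2 - 1 := by
    refine Nat.Coprime.dvd_of_dvd_mul_left ?_ (hcardE ▸ card_dvd_of_le hNE)
    exact (coprime_core H).coprime_dvd_left (card_dvd_of_le hNQ)
  rcases hd.small with rfl | rfl
  · left
    refine ⟨rfl, ?_⟩
    obtain ⟨i, -, hi⟩ := (Nat.dvd_prime_pow Nat.prime_three).1 (show Nat.card N ∣ 3 ^ 1 by simpa using hdvd)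
    exact IsPGroup.of_card hi
  · right
    have h8 : Nat.card N ∣ 2 ^ 3 := by simpa using hdvd
    obtain ⟨i, hi3, hi⟩ := (Nat.dvd_prime_pow Nat.prime_two).1 h8
    refine ⟨rfl, IsPGroup.of_card hi, fun hab => ?_⟩
    have hAN : zpowers a ≤ normalizer (N : Set G) := Cfsg.Lib.Coprime.le_normalizer_commutator_right _ _
    haveI hn : (N.subgroupOf (epl 3 H a)).Normal :=
      normal_subgroupOf_of_le_normalizer (sup_le le_normalizer hAN)
    have hidx : (N.subgroupOf (epl 3 H a)).index = 3 := by
      have h1 := card_mul_index (N.subgroupOf (epl 3 H a))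
      rw [Nat.card_congr (subgroupOfEquivOfLe hNE).toEquiv, hcardE, hi] at h1
      have h2 : Nat.card (epl 3 H a) ≤ Nat.card N * 3 := by
        refine (card_sup_le hAN).trans (Nat.mul_le_mul_left _ ?_)
        rw [Nat.card_zpowers]
        exact Nat.le_of_dvd (by norm_num) (orderOf_dvd_of_pow_eq_one ha.pow)
      rw [hcardE, hi] at h2
      interval_cases i <;> omega
    have hmem : ∀ x : Matrix.SpecialLinearGroup (Fin 2) (ZMod 3), x ^ 4 = 1 → (θ.symm x : G) ∈ N := by
      intro x hx
      have h3 := pow_index_mem (N.subgroupOf (epl 3 H a)) (θ.symm x)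
      rw [hidx, ← map_pow] at h3
      have h4 : θ.symm x = (θ.symm (x ^ 3))⁻¹ := by
        refine eq_inv_of_mul_eq_one_left ?_
        rw [← map_mul, ← pow_succ', hx, map_one]
      rw [h4]
      exact inv_mem (mem_subgroupOf.1 h3)
    obtain ⟨x, y, hx, hy, hxy⟩ := exists_noncomm_four
    haveI := hab
    have hc : (θ.symm x : G) * (θ.symm y : G) = (θ.symm y : G) * θ.symm x :=
      congrArg Subtype.val (mul_comm' (⟨_, hmem x hx⟩ : N) ⟨_, hmem y hy⟩)
    have h5 : θ.symm (x * y) = θ.symm (y * x) := Subtype.ext (by simpa using hc)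
    exact hxy (θ.symm.injective h5)

theorem iSupIndep_factors (hs : Setup p V H) {ι : Type*} (f : ι → G)
    (hf : ∀ i, IsTv p V H (f i)) (hinj : Function.Injective fun i => epl p H (f i)) :
    (∀ i j, i ≠ j → pl p V H (f j) ≤ fx V (epl p H (f i)) ∧ epl p H (f j) ≤ centralizer (pl p V H (f i) : Set G)) ∧
      iSupIndep (fun i => epl p H (f i)) := by
  have key : ∀ i j, i ≠ j → pl p V H (f j) ≤ fx V (epl p H (f i)) ∧
      epl p H (f j) ≤ centralizer (pl p V H (f i) : Set G) := by
    intro i j hij
    have hne : epl p H (f i) ≠ epl p H (f j) := fun e => hij (hinj e)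
    have hout : ∀ {a b c : G}, IsTv p V H a → IsTv p V H b → epl p H a ≠ epl p H b → c ∈ epl p H b →
        IsTv p V H c → c ∉ epl p H a := by
      intro a b c ha hb hne hcb hct hca
      have heq : ∀ {a : G}, IsTv p V H a → c ∈ epl p H a → epl p H a = epl p H c := by
        intro a ha hca
        obtain ⟨wc, hwc⟩ := exists_hasCtr hs hct
        obtain ⟨x, hx, hxc⟩ := exists_mover hs hct
        obtain ⟨W, -, he⟩ := epl_eq_closure hs hct hx hxc
        have hle : epl p H c ≤ epl p H a := by
          rw [← he]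
          refine (closure_le _).2 ?_
          intro y hy
          rcases hy with rfl | rfl
          · exact hca
          · exact conj_mem (core_normalizes_epl ha hx) hca
        refine (eq_of_le_of_card_ge hle ?_).symm
        obtain ⟨θ⟩ := (epl_data hs ha).iso
        obtain ⟨θ'⟩ := (epl_data hs hct).iso
        rw [Nat.card_congr θ.toEquiv, Nat.card_congr θ'.toEquiv]
      exact hne ((heq ha hca).trans (heq hb hcb).symm)
    refine ⟨fun u hu => mem_fx.2 ⟨(epl_data hs (hf j)).W_le hu, ?_⟩, ?_⟩
    · have hle : epl p H (f i) ≤ centralizer ({u} : Set G) := by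
        refine (epl_le_closure_tv hs (hf i)).trans ((closure_le _).2 fun c hc => ?_)
        have hc' := hout (hf j) (hf i) (Ne.symm hne) hc.1 hc.2
        exact mem_centralizer_singleton_iff.2 ((mem_fx.1
          (((tv_dichotomy hs (hf j) hc.2).resolve_left hc').2.1 hu)).2 c (mem_zpowers c))
      exact fun d hd => mem_centralizer_singleton_iff.1 (hle hd)
    · refine (epl_le_closure_tv hs (hf j)).trans ((closure_le _).2 fun c hc => mem_centralizer_iff.2 fun u hu => ?_)
      have hc' := hout (hf i) (hf j) hne hc.1 hc.2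
      exact ((mem_fx.1 (((tv_dichotomy hs (hf i) hc.2).resolve_left hc').2.1 hu)).2 c (mem_zpowers c)).symm
  refine ⟨key, fun i => disjoint_iff.2 (eq_bot_iff.2 ?_)⟩
  rw [← (epl_data hs (hf i)).faith]
  exact inf_le_inf le_rfl (iSup₂_le fun j hj => (key i j (Ne.symm hj)).2)

theorem iSupIndep_modules (hs : Setup p V H) (hgen : H ≤ closure {c | IsTv p V H c}) {ι : Type*} [Finite ι]
    (f : ι → G) (hf : ∀ i, IsTv p V H (f i)) (hinj : Function.Injective fun i => epl p H (f i))
    (hall : ∀ c, IsTv p V H c → ∃ i, c ∈ epl p H (f i)) :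
    iSupIndep (fun o : Option ι => o.elim (fx V H) (fun i => pl p V H (f i))) ∧
      fx V H ⊔ (⨆ i, pl p V H (f i)) = V := by
  classical
  cases nonempty_fintype ι
  obtain ⟨hk, -⟩ := iSupIndep_factors hs f hf hinj
  have hfxH : ∀ v ∈ V, (∀ i, v ∈ fx V (epl p H (f i))) → v ∈ fx V H := fun v hv h => by
    refine mem_fx.2 ⟨hv, fun g hg => ?_⟩
    have hle : closure {c | IsTv p V H c} ≤ centralizer ({v} : Set G) := (closure_le _).2 fun c hc => by
      obtain ⟨i, hi⟩ := hall c hc
      exact mem_centralizer_singleton_iff.2 ((mem_fx.1 (h i)).2 c hi)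
    exact mem_centralizer_singleton_iff.1 (hle (hgen hg))
  have hHle : ∀ i, fx V H ≤ fx V (epl p H (f i)) := fun i => fx_anti (epl_le hs (hf i))
  refine ⟨?_, le_antisymm (sup_le inf_le_left (iSup_le fun i => (epl_data hs (hf i)).W_le)) ?_⟩
  · intro o
    rw [disjoint_iff]
    rcases o with _ | i
    · -- the fixed points
      refine eq_bot_iff.2 fun x hx => ?_
      have hle : (⨆ (o : Option ι) (_ : o ≠ none),
          o.elim (fx V H) (fun i => pl p V H (f i))) ≤ ⨆ i, pl p V H (f i) := by
        refine iSup₂_le fun o ho => ?_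
        rcases o with _ | j
        · exact absurd rfl ho
        · exact le_iSup (fun i => pl p V H (f i)) j
      have hx2 : x ∈ ⨆ i, pl p V H (f i) := hle (mem_inf.1 hx).2
      have hx1 : x ∈ fx V H := (mem_inf.1 hx).1
      suffices key : ∀ s : Finset ι, ∀ x ∈ fx V H, x ∈ s.sup (fun i => pl p V H (f i)) → x = 1 by
        rw [← Finset.sup_univ_eq_iSup] at hx2
        exact mem_bot.2 (key Finset.univ x hx1 hx2)
      intro s
      induction s using Finset.induction_on with
      | empty => intro x _ hx; simpa using hx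
      | @insert i s hi ih =>
        intro x hx hxs
        rw [Finset.sup_insert, ← SetLike.mem_coe] at hxs
        have hsV : s.sup (fun i => pl p V H (f i)) ≤ V := Finset.sup_le fun j _ => (epl_data hs (hf j)).W_le
        rw [coe_mul_of_left_le_normalizer_right _ _ (fun u hu => centralizer_le_normalizer _
          (mem_centralizer_iff.2 fun z hz => comm_elem hs.elem (hsV hz) ((epl_data hs (hf i)).W_le hu))),
          Set.mem_mul] at hxs
        obtain ⟨w, hw, y, hy, rfl⟩ := hxs
        have hyC : y ∈ fx V (epl p H (f i)) :=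
          (Finset.sup_le fun j hj => (hk i j fun e => hi (e ▸ hj)).1) hy
        have hw1 : w ∈ pl p V H (f i) ⊓ fx V (epl p H (f i)) := mem_inf.2 ⟨hw, by
          have := mul_mem (hHle i hx) (inv_mem hyC); rwa [mul_inv_cancel_right] at this⟩
        rw [(epl_data hs (hf i)).inf_fx, mem_bot] at hw1
        rw [hw1, one_mul] at hx ⊢
        exact ih y hx hy
    · refine eq_bot_iff.2 (le_trans (inf_le_inf le_rfl ?_) (epl_data hs (hf i)).inf_fx.le)
      refine iSup₂_le fun o ho => ?_
      rcases o with _ | j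
      · exact hHle i
      · exact (hk i j fun e => ho (e ▸ rfl)).1
  · suffices key : ∀ s : Finset ι, ∀ v ∈ V, ∃ u ∈ (⨆ i, pl p V H (f i)), ∃ c ∈ V,
        (∀ i ∈ s, c ∈ fx V (epl p H (f i))) ∧ v = u * c by
      intro v hv
      obtain ⟨u, hu, c, hc, hcs, rfl⟩ := key Finset.univ v hv
      exact mul_mem (mem_sup_right hu) (mem_sup_left (hfxH c hc fun i => hcs i (Finset.mem_univ i)))
    intro s
    induction s using Finset.induction_on with
    | empty => exact fun v hv => ⟨1, one_mem _, v, hv, by simp, (one_mul v).symm⟩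
    | @insert i s hi ih =>
      intro v hv
      obtain ⟨u, hu, c, hc, hcs, rfl⟩ := ih v hv
      obtain ⟨w, hw, c', hc', rfl⟩ := split_mem hs (hf i) hc
      refine ⟨u * w, mul_mem hu (mem_iSup_of_mem i hw), c', (mem_fx.1 hc').1, fun j hj => ?_,
        (mul_assoc u w c').symm⟩
      rcases Finset.mem_insert.1 hj with rfl | hjs
      · exact hc'
      · have hwj := (hk j i fun e => hi (e ▸ hjs)).1 hw
        have := mul_mem (inv_mem hwj) (hcs j hjs)
        rwa [inv_mul_cancel_left] at this

end Cfsg.Lib.FF
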